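import Cfsg.Agent.Transfer.PResidual
import Cfsg.Agent.Transfer.Basic
import Cfsg.Agent.LocalB.HSubgroup
import Cfsg.Agent.DGroup.Fusion
import Mathlib.GroupTheory.OrderOfElement

/-!
# Small facts on elements of odd order and 2-nilpotent groups
-/

set_option autoImplicit false
set_option linter.style.haveILetI false
set_option linter.unusedSectionVars false

namespace CfsgLib.ClassSizeP

open Subgroup

variable {G : Type*} [Group G] [Finite G]

theorem twoNil_of_odd_cover (W : Subgroup G) (hW : Odd (Nat.card W))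
    (h : ∀ g : G, Odd (orderOf g) → g ∈ W) : Cfsg.HasNormalPComplement 2 G := by
  haveI : Fact (Nat.Prime 2) := ⟨Nat.prime_two⟩
  refine PResidual.hasNormalPComplement_iff.2
    ((Nat.coprime_two_right.2 hW).coprime_dvd_left (card_dvd_of_le ?_))
  exact (closure_le _).2 fun g hg => h g (Nat.coprime_two_right.1 hg)

theorem residual_odd (h : Cfsg.HasNormalPComplement 2 G) : Odd (Nat.card (Cfsg.pResidual 2 G)) := by
  haveI : Fact (Nat.Prime 2) := ⟨Nat.prime_two⟩
  exact Nat.coprime_two_right.1 (PResidual.hasNormalPComplement_iff.1 h)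

theorem mem_residual {g : G} (h : Odd (orderOf g)) : g ∈ Cfsg.pResidual 2 G :=
  subset_closure (Nat.coprime_two_right.2 h)

/-- In a 2-nilpotent subgroup, elements of odd order generate an odd subgroup. -/
theorem exists_odd_cover {H : Subgroup G} (h : Cfsg.HasNormalPComplement 2 H) :
    ∃ W : Subgroup G, W ≤ H ∧ Odd (Nat.card W) ∧ ∀ g ∈ H, Odd (orderOf g) → g ∈ W := by
  refine ⟨(Cfsg.pResidual 2 H).map H.subtype, map_subtype_le _, ?_, fun g hg ho => ?_⟩
  · rw [card_map_of_injective H.subtype_injective]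
    exact residual_odd h
  · exact ⟨⟨g, hg⟩, mem_residual (by rwa [← Subgroup.orderOf_coe]), rfl⟩

theorem eq_one_of_two_pow_odd {x : G} {k : ℕ} (h : x ^ 2 ^ k = 1) (ho : Odd (orderOf x)) : x = 1 :=
  orderOf_eq_one_iff.1 (Nat.eq_one_of_dvd_coprimes ((Nat.coprime_two_left.2 ho).pow_left k)
    (orderOf_dvd_of_pow_eq_one h) dvd_rfl)

theorem eq_one_of_mem_two {P : Subgroup G} (hP : IsPGroup 2 P) {x : G} (hx : x ∈ P)
    (ho : Odd (orderOf x)) : x = 1 := by
  obtain ⟨k, hk⟩ := hP ⟨x, hx⟩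
  exact eq_one_of_two_pow_odd (congrArg Subtype.val hk) ho

theorem eq_one_of_mem_odd {W : Subgroup G} (hW : Odd (Nat.card W)) {x : G} (hx : x ∈ W)
    (h2 : x * x = 1) : x = 1 :=
  eq_one_of_two_pow_odd (k := 1) (by rwa [pow_one, pow_two]) (hW.of_dvd_nat (W.orderOf_dvd_natCard hx))

/-- Lifting an element of order prime to `p`. -/
theorem exists_pow_lift {H : Type*} [Group H] [Finite H] (f : G →* H) (p : ℕ) [Fact p.Prime] (g : G)
    (hg : ¬ p ∣ orderOf (f g)) :
    ∃ n : ℕ, ¬ p ∣ orderOf (g ^ n) ∧ f (g ^ n) = f g := by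
  have hp : p.Prime := Fact.out
  obtain ⟨k, m, hm, he⟩ := Nat.exists_eq_pow_mul_and_not_dvd (orderOf_pos g).ne' p hp.ne_one
  have hc : (p ^ k).Coprime (orderOf (f g)) := ((hp.coprime_iff_not_dvd).2 hg).pow_left k
  obtain ⟨t, ht⟩ := exists_pow_eq_self_of_coprime (x := f g) hc
  refine ⟨p ^ k * t, fun hd => hm (hd.trans (orderOf_dvd_of_pow_eq_one ?_)), ?_⟩
  · rw [← pow_mul, show p ^ k * t * m = orderOf g * t by rw [he]; ring, pow_mul, pow_orderOf_eq_one,
      one_pow]
  · rw [map_pow, pow_mul, ht]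

/-- Lifting an element of prime power order to one of prime power order. -/
theorem exists_primePow_lift {H : Type*} [Group H] [Finite H] (f : G →* H) (g : G)
    (hg : IsPrimePow (orderOf (f g))) :
    ∃ n : ℕ, IsPrimePow (orderOf (g ^ n)) ∧ (Odd (orderOf (f g)) → Odd (orderOf (g ^ n))) ∧
      f (g ^ n) = f g := by
  obtain ⟨r, j, hr, hj, he⟩ := (isPrimePow_nat_iff _).1 hg
  haveI := Fact.mk hr
  obtain ⟨k, m, hm, hem⟩ := Nat.exists_eq_pow_mul_and_not_dvd (orderOf_pos g).ne' r hr.ne_one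
  have hc : m.Coprime (orderOf (f g)) := by
    rw [← he]
    exact (((hr.coprime_iff_not_dvd).2 hm).symm).pow_right j
  obtain ⟨t, ht⟩ := exists_pow_eq_self_of_coprime (x := f g) hc
  have h1 : f (g ^ (m * t)) = f g := by rw [map_pow, pow_mul, ht]
  have h2 : orderOf (g ^ (m * t)) ∣ r ^ k := orderOf_dvd_of_pow_eq_one (by
    rw [← pow_mul, show m * t * r ^ k = orderOf g * t by rw [hem]; ring, pow_mul, pow_orderOf_eq_one,
      one_pow])
  obtain ⟨i, -, hi⟩ := (Nat.dvd_prime_pow hr).1 h2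
  have h3 : r ^ j ∣ r ^ i := he ▸ hi ▸ h1 ▸ orderOf_map_dvd f (g ^ (m * t))
  have hi0 : i ≠ 0 := fun e => by
    rw [e, pow_zero, Nat.dvd_one] at h3
    exact hr.ne_one (((Nat.pow_eq_one).1 h3).resolve_right (by omega))
  refine ⟨m * t, hi ▸ (isPrimePow_nat_iff _).2 ⟨r, i, hr, Nat.pos_of_ne_zero hi0, rfl⟩, fun ho => ?_, h1⟩
  rw [hi]
  refine Odd.pow (hr.odd_of_ne_two fun e2 => ?_)
  rw [← he, e2] at ho
  exact Nat.not_even_iff_odd.2 ho (Nat.even_pow.2 ⟨even_two, by omega⟩)

/-- A subgroup containing every prime power part of an element contains it. -/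
theorem mem_of_primePow (W : Subgroup G) :
    ∀ n : ℕ, ∀ y : G, orderOf y = n → Odd n →
      (∀ x ∈ zpowers y, Odd (orderOf x) → IsPrimePow (orderOf x) → x ∈ W) → y ∈ W := by
  intro n
  induction n using Nat.recOnPrimeCoprime with
  | zero => exact fun y hy => absurd hy (orderOf_pos y).ne'
  | prime_pow p k hp =>
    intro y hy ho h
    rcases Nat.eq_zero_or_pos k with rfl | hk
    · rw [pow_zero, orderOf_eq_one_iff] at hy
      exact hy ▸ one_mem W
    · exact h y (mem_zpowers y) (hy ▸ ho) (hy ▸ (isPrimePow_nat_iff _).2 ⟨p, k, hp, hk, rfl⟩)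
  | coprime a b ha hb hab iha ihb =>
    intro y hy ho h
    have hoa : orderOf (y ^ b) = a := by
      rw [orderOf_pow' _ (by omega), hy, Nat.gcd_eq_right (dvd_mul_left b a),
        Nat.mul_div_cancel _ (by omega)]
    have hob : orderOf (y ^ a) = b := by
      rw [orderOf_pow' _ (by omega), hy, Nat.gcd_eq_right (dvd_mul_right a b),
        Nat.mul_div_cancel_left _ (by omega)]
    have hw : ∀ m : ℕ, ∀ x ∈ zpowers (y ^ m), x ∈ zpowers y := fun m x hx =>
      (zpowers_le.2 (pow_mem (mem_zpowers y) m)) hx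
    have h1 := iha _ hoa (Nat.Odd.of_mul_left ho) fun x hx => h x (hw b x hx)
    have h2 := ihb _ hob (Nat.Odd.of_mul_right ho) fun x hx => h x (hw a x hx)
    have hg : (Nat.gcd b a : ℤ) = b * Nat.gcdA b a + a * Nat.gcdB b a := Nat.gcd_eq_gcd_ab b a
    rw [hab.symm.gcd_eq_one, Nat.cast_one] at hg
    have : y = (y ^ b) ^ Nat.gcdA b a * (y ^ a) ^ Nat.gcdB b a := by
      rw [← zpow_natCast y b, ← zpow_natCast y a, ← zpow_mul, ← zpow_mul, ← zpow_add, ← hg, zpow_one]
    rw [this]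
    exact mul_mem (zpow_mem h1 _) (zpow_mem h2 _)

/-- A group of order not divisible by 4 is 2-nilpotent. -/
theorem twoNil_of_not_four (h : ¬ 4 ∣ Nat.card G) : Cfsg.HasNormalPComplement 2 G := by
  haveI : Fact (Nat.Prime 2) := ⟨Nat.prime_two⟩
  obtain ⟨P⟩ : Nonempty (Sylow 2 G) := inferInstance
  refine LocalB.HSub.hasNormalPComplement_of_cyclic (fun q hq _ => hq.two_le) P ?_
  obtain ⟨k, hk⟩ := IsPGroup.iff_card.1 P.2
  have hk1 : k ≤ 1 := by
    by_contra hlt
    exact h ((show 4 ∣ 2 ^ k from (by norm_num : 4 = 2 ^ 2) ▸ pow_dvd_pow 2 (by omega)).trans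
      (hk ▸ card_subgroup_dvd_card _))
  rcases Nat.le_one_iff_eq_zero_or_eq_one.1 hk1 with rfl | rfl
  · haveI : Subsingleton (P : Subgroup G) := (Nat.card_eq_one_iff_unique.1 hk).1
    infer_instance
  · exact isCyclic_of_prime_card (by simpa using hk)

/-- A group whose 2-elements are central is 2-nilpotent. -/
theorem twoNil_of_central (h : ∀ (g : G) (k : ℕ), g ^ 2 ^ k = 1 → ∀ x : G, Commute g x) :
    Cfsg.HasNormalPComplement 2 G := by
  haveI : Fact (Nat.Prime 2) := ⟨Nat.prime_two⟩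
  obtain ⟨P⟩ : Nonempty (Sylow 2 G) := inferInstance
  refine TransferBasic.hasNormalPComplement_of_le_centralizer P fun n _ => mem_centralizer_iff.2
    fun x hx => ?_
  obtain ⟨k, hk⟩ := P.2 ⟨x, hx⟩
  exact (h x k (congrArg Subtype.val hk) n).eq

theorem twoNil_solvable (h : Cfsg.HasNormalPComplement 2 G) : Group.IsSolvable G := by
  haveI : Fact (Nat.Prime 2) := ⟨Nat.prime_two⟩
  exact DGroup.solvable_of_odd_mem _ (residual_odd h) fun _ hy => mem_residual hy

/-- The centraliser of an element whose class has no factor 4. -/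
theorem card_le_two_mul_sylow {y : G} (h : ¬ 4 ∣ (centralizer ({y} : Set G)).index)
    (T : Sylow 2 ↥(centralizer ({y} : Set G))) {m : ℕ} (hm : 2 ^ m ∣ Nat.card G) :
    2 ^ m ∣ 2 * Nat.card (T : Subgroup ↥(centralizer ({y} : Set G))) := by
  haveI : Fact (Nat.Prime 2) := ⟨Nat.prime_two⟩
  obtain ⟨t, ht⟩ := IsPGroup.iff_card.1 T.2
  have h1 : (T : Subgroup ↥(centralizer ({y} : Set G))).index * 2 ^ t = Nat.card ↥(centralizer ({y} : Set G)) := by
    rw [← ht]; exact index_mul_card _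
  by_contra hcon
  rw [ht, ← pow_succ'] at hcon
  have hlt : t + 2 ≤ m := by
    by_contra hle
    exact hcon (pow_dvd_pow 2 (by omega))
  have h2 : 2 ^ (t + 2) ∣ (centralizer ({y} : Set G)).index * ((T : Subgroup ↥(centralizer ({y} : Set G))).index * 2 ^ t) := by
    rw [h1, index_mul_card]
    exact (pow_dvd_pow 2 hlt).trans hm
  have h3 : 4 ∣ (centralizer ({y} : Set G)).index * (T : Subgroup ↥(centralizer ({y} : Set G))).index := by
    refine Nat.dvd_of_mul_dvd_mul_right (pow_pos two_pos t) ?_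
    rw [mul_assoc, show 4 * 2 ^ t = 2 ^ (t + 2) by ring]
    exact h2
  exact h (((Nat.prime_two.coprime_iff_not_dvd.2 T.not_dvd_index).pow_left 2).dvd_of_dvd_mul_right
    (by norm_num; exact h3))

end CfsgLib.ClassSizeP
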