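import Cfsg.Agent.ClassSizeP.Witness
import Cfsg.Agent.Solvable.CoprimeAct
import Cfsg.Agent.ZCGroup.Basic
import Cfsg.Agent.Perm.MinimalNormal
import Mathlib.GroupTheory.Subgroup.Centralizer

/-!
# 2-nilpotence when the classes of odd prime power elements have sizes not divisible by 4

By downward induction on the 2-subgroup `D` the centraliser of `D` has a normal 2-complement: otherwise
every odd prime power element of the relevant quotient is fixed by an involution with 2-nilpotent
fixed points.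
-/

set_option autoImplicit false
set_option linter.style.haveILetI false
set_option linter.unusedSectionVars false

namespace CfsgLib.ClassSizeP

open Subgroup

universe u

variable {G : Type u} [Group G] [Finite G]

/-- The hypothesis on the classes of elements of odd prime power order. -/
def SmallTwo (G : Type u) [Group G] : Prop :=
  ∀ y : G, Odd (orderOf y) → IsPrimePow (orderOf y) → ¬ 4 ∣ (centralizer ({y} : Set G)).index

/-- The conclusion for one 2-subgroup, assuming it for all larger ones. -/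
structure Ctx (G : Type u) [Group G] (D : Subgroup G) : Prop where
  small : SmallTwo G
  two : IsPGroup 2 D
  bigger : ∀ D' : Subgroup G, IsPGroup 2 D' → D < D' → Cfsg.HasNormalPComplement 2 ↥(centralizer (D' : Set G))

section

variable {D : Subgroup G}

/-- The normaliser. -/
abbrev Nm (D : Subgroup G) : Subgroup G := normalizer (D : Set G)

/-- `D` in its normaliser. -/
abbrev Din (D : Subgroup G) : Subgroup ↥(Nm D) := D.subgroupOf (Nm D)

/-- `C(D)` in the normaliser. -/
abbrev Xin (D : Subgroup G) : Subgroup ↥(Nm D) := (centralizer (D : Set G)).subgroupOf (Nm D)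

/-- The odd core inside `C(D)`. -/
abbrev Oin (D : Subgroup G) : Subgroup ↥(Nm D) := Xin D ⊓ Cfsg.pPrimeCore 2 ↥(Nm D)

/-- The kernel of the reduction. -/
abbrev Kin (D : Subgroup G) : Subgroup ↥(Nm D) := Din D ⊔ Oin D

instance : (Din D).Normal := normal_in_normalizer

instance : (Xin D).Normal := by
  refine (normal_subgroupOf_iff_le_normalizer (centralizer_le_normalizer _)).2 fun g hg => ?_
  refine ZCGroup.mem_normalizer_of_map_le ?_
  rintro _ ⟨c, hc, rfl⟩
  refine mem_centralizer_iff.2 fun d hd => ?_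
  have h1 : g⁻¹ * d * g ∈ D := by
    have := (mem_normalizer_iff.1 (inv_mem hg) d).1 hd
    rwa [inv_inv] at this
  have h2 := mem_centralizer_iff.1 hc _ h1
  show d * (g * c * g⁻¹) = g * c * g⁻¹ * d
  calc d * (g * c * g⁻¹) = g * (g⁻¹ * d * g * c) * g⁻¹ := by group
    _ = g * c * g⁻¹ * d := by rw [h2]; group

theorem normal_le {H : Type*} [Group H] (A N : Subgroup H) [N.Normal] :
    A ≤ normalizer (N : Set H) := le_normalizer_of_normal

theorem commute_din {x d : ↥(Nm D)} (hx : x ∈ Xin D) (hd : d ∈ Din D) : Commute x d :=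
  Subtype.ext (mem_centralizer_iff.1 hx (d : G) hd).symm

theorem odd_oin : Odd (Nat.card (Oin D)) :=
  (Nat.coprime_two_right.1 (Solvable.coprime_card_pPrimeCore (G := ↥(Nm D)) 2)).of_dvd_nat
    (card_dvd_of_le inf_le_right)

theorem exists_kin {x : ↥(Nm D)} (hx : x ∈ Kin D) : ∃ d ∈ Din D, ∃ o ∈ Oin D, d * o = x :=
  (Solvable.mem_sup_of_le_normalizer (normal_le _ _)).1 hx

theorem two_mem_din (hD : IsPGroup 2 D) {x : ↥(Nm D)} (hx : x ∈ Kin D) {k : ℕ} (hk : x ^ 2 ^ k = 1) :
    x ∈ Din D := by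
  obtain ⟨d, hd, o, ho, rfl⟩ := exists_kin hx
  have hc : Commute d o := (commute_din ho.1 hd).symm
  rw [hc.mul_pow, mul_eq_one_iff_eq_inv] at hk
  have hmem : d ^ 2 ^ k ∈ Oin D := hk ▸ inv_mem (pow_mem ho _)
  have h1 : d ^ 2 ^ k = 1 := eq_one_of_mem_two (hD.comap_of_injective (Nm D).subtype (subtype_injective _))
    (pow_mem hd _) (odd_oin.of_dvd_nat ((Oin D).orderOf_dvd_natCard hmem))
  have h2 : o ^ 2 ^ k = 1 := by rwa [h1, eq_comm, inv_eq_one] at hk
  rw [eq_one_of_two_pow_odd h2 (odd_oin.of_dvd_nat ((Oin D).orderOf_dvd_natCard ho)), mul_one]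
  exact hd

/-- An element of `C(D)` of odd order fixed modulo the kernel by a 2-element `p` can be replaced by
one fixed by `p`. -/
theorem fixed_lift (hD : IsPGroup 2 D) {x p : ↥(Nm D)} (hx : x ∈ Xin D) (ho : Odd (orderOf x))
    {j : ℕ} (hp : p ^ 2 ^ j = 1) (hfix : x⁻¹ * (p * x * p⁻¹) ∈ Kin D) :
    ∃ e : ↥(Nm D), x⁻¹ * e ∈ Kin D ∧ e ∈ Xin D ∧ Odd (orderOf e) ∧ Commute e p := by
  obtain ⟨d, hd, o, hoO, hdo⟩ := exists_kin hfix
  have hdc : Commute x d := commute_din hx hd
  set E := zpowers x ⊔ Oin D with hE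
  have hEodd : Odd (Nat.card E) := by
    have h := Solvable.card_sup_dvd (normal_le (zpowers x) (Oin D))
    rw [Nat.card_zpowers] at h
    exact (ho.mul odd_oin).of_dvd_nat h
  have hxo : x * o ∈ E := mul_mem (mem_sup_left (mem_zpowers x)) (mem_sup_right hoO)
  have hpx : p * x * p⁻¹ = d * (x * o) := by
    calc p * x * p⁻¹ = x * (x⁻¹ * (p * x * p⁻¹)) := (mul_inv_cancel_left _ _).symm
      _ = d * (x * o) := by rw [← hdo, ← mul_assoc, hdc.eq, mul_assoc]
  have hd1 : d = 1 := by
    have hc : Commute d (x * o) := hdc.symm.mul_right (commute_din hoO.1 hd).symm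
    have e : d = p * x * p⁻¹ * (x * o)⁻¹ := by rw [hpx, mul_inv_cancel_right]
    have hc2 : Commute (p * x * p⁻¹) (x * o)⁻¹ := by
      rw [hpx]
      exact ((hc.mul_left (Commute.refl (x * o))).inv_right)
    refine eq_one_of_mem_two (hD.comap_of_injective (Nm D).subtype (subtype_injective _)) hd ?_
    rw [e]
    have h1 : Odd (orderOf (p * x * p⁻¹)) := by
      rwa [show p * x * p⁻¹ = MulAut.conj p x from rfl, MulEquiv.orderOf_eq]
    exact (h1.mul (hEodd.of_dvd_nat (E.orderOf_dvd_natCard (inv_mem hxo)))).of_dvd_nat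
      hc2.orderOf_mul_dvd_mul_orderOf
  rw [hd1, one_mul] at hdo
  have hcop : (Nat.card (zpowers p)).Coprime (Nat.card E) := by
    rw [Nat.card_zpowers]
    exact ((Nat.coprime_two_left.2 hEodd).pow_left j).coprime_dvd_left (orderOf_dvd_of_pow_eq_one hp)
  have hA : zpowers p ≤ normalizer (E : Set ↥(Nm D)) := by
    refine zpowers_le.2 (mem_normalizer_iff_map_conj_eq.2 (eq_of_le_of_card_ge ?_
      (card_map_of_injective (f := (MulAut.conj p).toMonoidHom) (MulAut.conj p).injective).ge))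
    rw [Subgroup.map_le_iff_le_comap]
    refine sup_le (zpowers_le.2 ?_) fun y hy => ?_
    · show p * x * p⁻¹ ∈ E
      rw [hpx, hd1, one_mul]
      exact hxo
    · show p * y * p⁻¹ ∈ E
      exact mem_sup_right (Normal.conj_mem inferInstance y hy p)
  have hcom : Commute (p : ↥(Nm D) ⧸ Oin D) (x : ↥(Nm D) ⧸ Oin D) := by
    have : ((x : ↥(Nm D) ⧸ Oin D))⁻¹ * ((p : ↥(Nm D) ⧸ Oin D) * x * (p : ↥(Nm D) ⧸ Oin D)⁻¹) = 1 := by
      rw [← QuotientGroup.mk_inv, ← QuotientGroup.mk_inv, ← QuotientGroup.mk_mul, ← QuotientGroup.mk_mul,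
        ← QuotientGroup.mk_mul, QuotientGroup.eq_one_iff, ← hdo]
      exact hoO
    exact mul_inv_eq_iff_eq_mul.1 (inv_mul_eq_one.1 this).symm
  obtain ⟨e, heE, hec⟩ : ∃ e, x⁻¹ * e ∈ Oin D ∧ e ∈ centralizer (zpowers p : Set ↥(Nm D)) := by
    obtain ⟨e, he1, he2⟩ := CoprimeAct.exists_centralizing_mem_coset (K := E) (N := Oin D) hA hcop le_sup_right
      (normal_le _ _)
      (Or.inr (DGroup.solvable_of_odd _ odd_oin))
      (mem_sup_left (mem_zpowers x)) fun a ha => by
        obtain ⟨i, rfl⟩ := mem_zpowers_iff.1 ha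
        rw [← QuotientGroup.eq_one_iff, QuotientGroup.mk_mul, QuotientGroup.mk_mul, QuotientGroup.mk_mul,
          QuotientGroup.mk_inv, QuotientGroup.mk_inv, QuotientGroup.mk_zpow,
          (hcom.zpow_left i).eq, mul_inv_cancel_right, inv_mul_cancel]
    exact ⟨e, he2, he1.2⟩
  have hem : e ∈ E := by
    rw [← mul_inv_cancel_left x e]
    exact mul_mem (mem_sup_left (mem_zpowers x)) (mem_sup_right heE)
  refine ⟨e, mem_sup_right heE, ?_, hEodd.of_dvd_nat (E.orderOf_dvd_natCard hem), ?_⟩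
  · exact (sup_le (zpowers_le.2 hx) inf_le_left : E ≤ Xin D) hem
  · exact (mem_centralizer_iff.1 hec p (mem_zpowers p)).symm

/-- A 2-element normalising `D`, squaring into it. -/
theorem isPGroup_sup (hD : IsPGroup 2 D) {p : G} (hp : p ∈ Nm D) {j : ℕ} (hj : p ^ 2 ^ j = 1) :
    IsPGroup 2 ↥(zpowers p ⊔ D : Subgroup G) := by
  haveI : Fact (Nat.Prime 2) := ⟨Nat.prime_two⟩
  obtain ⟨i, -, hi⟩ := (Nat.dvd_prime_pow Nat.prime_two).1 (orderOf_dvd_of_pow_eq_one hj)
  exact IsPGroup.to_sup_of_normal_right' (IsPGroup.of_card (n := i) (by rw [Nat.card_zpowers, hi])) hD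
    (zpowers_le.2 hp)

variable (h : Ctx G D)
include h

set_option quotPrecheck false in
local notation "Mq" => ↥(Nm D) ⧸ Kin D

/-- The image of `C(D)`. -/
abbrev Yq (D : Subgroup G) : Subgroup (↥(Nm D) ⧸ Kin D) := (Xin D).map (QuotientGroup.mk' (Kin D))

/-- An involution of the quotient comes from a 2-element outside `D`. -/
theorem invol_lift {a : Mq} (ha : orderOf a = 2) :
    ∃ (p : ↥(Nm D)) (j : ℕ), (p : Mq) = a ∧ p ^ 2 ^ j = 1 ∧ p ∉ Din D := by
  obtain ⟨g, rfl⟩ := QuotientGroup.mk_surjective a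
  obtain ⟨j, m, hm, he⟩ := Nat.exists_eq_two_pow_mul_odd (orderOf_pos g).ne'
  have hga : ((g ^ m : ↥(Nm D)) : Mq) = (g : Mq) := by
    rw [QuotientGroup.mk_pow]
    obtain ⟨i, rfl⟩ := hm
    have e : (g : Mq) ^ 2 = 1 := orderOf_dvd_iff_pow_eq_one.1 (dvd_of_eq ha)
    rw [pow_succ, pow_mul, e, one_pow, one_mul]
  refine ⟨g ^ m, j, hga, by rw [← pow_mul, mul_comm, ← he, pow_orderOf_eq_one], fun hd => ?_⟩
  rw [(QuotientGroup.eq_one_iff (g ^ m)).2 (mem_sup_left hd)] at hga
  rw [← hga, orderOf_one] at ha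
  omega

/-- Fixed points on the image of `C(D)` of an involution are 2-nilpotent. -/
theorem fixed_twoNil {a : Mq} (ha : orderOf a = 2) :
    Cfsg.HasNormalPComplement 2 ↥(Yq D ⊓ centralizer ({a} : Set Mq)) := by
  haveI : Fact (Nat.Prime 2) := ⟨Nat.prime_two⟩
  obtain ⟨p, j, hpa, hpj, hpD⟩ := invol_lift h ha
  have hpG : ((p : G)) ^ 2 ^ j = 1 := by rw [← Subgroup.coe_pow, hpj]; rfl
  have hlt : D < zpowers (p : G) ⊔ D :=
    right_lt_sup.2 fun hle => hpD (mem_subgroupOf.2 (zpowers_le.1 hle))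
  obtain ⟨W, -, hWo, hW⟩ := exists_odd_cover (h.bigger _ (isPGroup_sup h.two p.2 hpG) hlt)
  set W' := (W.subgroupOf (Nm D)).map (QuotientGroup.mk' (Kin D)) with hW'
  have hW'o : Odd (Nat.card W') := by
    refine hWo.of_dvd_nat (((W.subgroupOf (Nm D)).card_map_dvd _).trans ?_)
    exact card_comap_dvd_of_injective W (Nm D).subtype (subtype_injective _)
  refine twoNil_of_odd_cover (W'.subgroupOf _)
    (hW'o.of_dvd_nat (card_comap_dvd_of_injective W' _ (subtype_injective _))) ?_
  rintro ⟨v, ⟨x₀, hx₀, rfl⟩, hvc⟩ hvo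
  rw [← Subgroup.orderOf_coe] at hvo
  obtain ⟨n, hn, hn'⟩ := exists_pow_lift (QuotientGroup.mk' (Kin D)) 2 x₀ hvo.not_two_dvd_nat
  set x := x₀ ^ n
  have hx : x ∈ Xin D := pow_mem hx₀ n
  have hxo : Odd (orderOf x) := Nat.not_even_iff_odd.1 fun he => hn (even_iff_two_dvd.1 he)
  have hfix : x⁻¹ * (p * x * p⁻¹) ∈ Kin D := by
    rw [← QuotientGroup.eq_one_iff, QuotientGroup.mk_mul, QuotientGroup.mk_mul, QuotientGroup.mk_mul,
      QuotientGroup.mk_inv, QuotientGroup.mk_inv, hpa, show (x : Mq) = (x₀ : Mq) from hn',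
      show a * (x₀ : Mq) = (x₀ : Mq) * a from (mem_centralizer_singleton_iff.1 hvc).symm,
      mul_inv_cancel_right, inv_mul_cancel]
  obtain ⟨e, hek, heX, heo, hec⟩ := fixed_lift h.two hx hxo hpj hfix
  refine mem_subgroupOf.2 ⟨e, mem_subgroupOf.2 (hW _ ?_ (by rwa [Subgroup.orderOf_coe])), ?_⟩
  · refine mem_centralizer_iff.2 fun g hg => ?_
    have hle : zpowers (p : G) ⊔ D ≤ centralizer ({(e : G)} : Set G) := by
      refine sup_le (zpowers_le.2 (mem_centralizer_singleton_iff.2 ?_)) fun d hd => ?_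
      · exact (congrArg Subtype.val hec.eq).symm
      · exact mem_centralizer_singleton_iff.2 (mem_centralizer_iff.1 heX d hd)
    exact mem_centralizer_singleton_iff.1 (hle hg)
  · show ((e : ↥(Nm D)) : Mq) = (x₀ : Mq)
    rw [← show (x : Mq) = (x₀ : Mq) from hn']
    exact (QuotientGroup.eq.2 hek).symm

/-- A 2-nilpotent image of `C(D)` gives a 2-nilpotent `C(D)`, and odd normal subgroups of the
quotient inside it are trivial. -/
theorem preimage_twoNil (R : Subgroup Mq) (hR : Odd (Nat.card R)) :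
    Cfsg.HasNormalPComplement 2 ↥(Xin D ⊓ R.comap (QuotientGroup.mk' (Kin D))) := by
  refine twoNil_of_central fun g k hk x => Subtype.ext ?_
  have h1 : (g : ↥(Nm D)) ^ 2 ^ k = 1 := congrArg Subtype.val hk
  have h2 : ((g : ↥(Nm D)) : Mq) = 1 :=
    eq_one_of_two_pow_odd (k := k) (by rw [← QuotientGroup.mk_pow, h1]; rfl)
      (hR.of_dvd_nat (R.orderOf_dvd_natCard g.2.2))
  exact (commute_din x.2.1 (two_mem_din h.two ((QuotientGroup.eq_one_iff _).1 h2) h1)).symm.eq

theorem oddNormal_eq_bot (R : Subgroup Mq) [R.Normal] (hR : Odd (Nat.card R)) (hRY : R ≤ Yq D) :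
    R = ⊥ := by
  haveI : Fact (Nat.Prime 2) := ⟨Nat.prime_two⟩
  set J := Xin D ⊓ R.comap (QuotientGroup.mk' (Kin D)) with hJ
  have hJn := preimage_twoNil h R hR
  rw [← hJ] at hJn
  haveI : J.Normal := by rw [hJ]; infer_instance
  set W := (Cfsg.pResidual 2 J).map J.subtype with hWdef
  haveI : W.Normal := ConjAct.normal_of_characteristic_of_normal
  have hWo : Odd (Nat.card W) := by
    rw [hWdef, card_map_of_injective J.subtype_injective]
    exact residual_odd hJn
  have hWO : W ≤ Oin D := le_inf ((map_subtype_le _).trans inf_le_left)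
    (Solvable.le_pPrimeCore 2 inferInstance (Nat.coprime_two_right.2 hWo))
  refine eq_bot_iff.2 fun v hv => mem_bot.2 ?_
  obtain ⟨x₀, hx₀, rfl⟩ := hRY hv
  have hvo := hR.of_dvd_nat (R.orderOf_dvd_natCard hv)
  obtain ⟨n, hn, hn'⟩ := exists_pow_lift (QuotientGroup.mk' (Kin D)) 2 x₀ hvo.not_two_dvd_nat
  rw [← hn', ← MonoidHom.mem_ker, QuotientGroup.ker_mk']
  refine mem_sup_right (hWO ⟨⟨x₀ ^ n, pow_mem hx₀ n, ?_⟩, mem_residual ?_, rfl⟩)
  · show QuotientGroup.mk' (Kin D) (x₀ ^ n) ∈ R
    rw [hn']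
    exact hv
  · rw [← Subgroup.orderOf_coe]
    exact Nat.not_even_iff_odd.1 fun he => hn (even_iff_two_dvd.1 he)

theorem twoNil_of_image (hY : Cfsg.HasNormalPComplement 2 ↥(Yq D)) :
    Cfsg.HasNormalPComplement 2 ↥(centralizer (D : Set G)) := by
  haveI : Fact (Nat.Prime 2) := ⟨Nat.prime_two⟩
  obtain ⟨R, hRY, hRo, hR⟩ := exists_odd_cover hY
  obtain ⟨W, hWJ, hWo, hW⟩ := exists_odd_cover (preimage_twoNil h R hRo)
  have key : Cfsg.HasNormalPComplement 2 ↥(Xin D) := by
    refine twoNil_of_odd_cover (W.subgroupOf (Xin D))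
      (hWo.of_dvd_nat (card_comap_dvd_of_injective W _ (subtype_injective _))) fun x hx => ?_
    rw [← Subgroup.orderOf_coe] at hx
    exact hW _ ⟨x.2, hR _ ⟨x, x.2, rfl⟩ (hx.of_dvd_nat (orderOf_map_dvd _ _))⟩ hx
  exact PResidual.hasNormalPComplement_of_injective
    (subgroupOfEquivOfLe (centralizer_le_normalizer (D : Set G))).symm.toMonoidHom
    (subgroupOfEquivOfLe (centralizer_le_normalizer (D : Set G))).symm.injective key

/-- Every odd prime power element of the image is fixed by an involution of the quotient. -/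
theorem exists_invol (hY : ¬ Cfsg.HasNormalPComplement 2 ↥(Yq D)) {v : Mq} (hv : v ∈ Yq D)
    (ho : Odd (orderOf v)) (hp : IsPrimePow (orderOf v)) : ∃ a : Mq, orderOf a = 2 ∧ Commute a v := by
  haveI : Fact (Nat.Prime 2) := ⟨Nat.prime_two⟩
  obtain ⟨x₀, hx₀, rfl⟩ := hv
  obtain ⟨n, hnp, hno, hn⟩ := exists_primePow_lift (QuotientGroup.mk' (Kin D)) x₀ hp
  set x := x₀ ^ n
  have hx : x ∈ Xin D := pow_mem hx₀ n
  set C := centralizer ({(x : G)} : Set G) with hC
  have hDC : D ≤ C := fun d hd => mem_centralizer_singleton_iff.2 (mem_centralizer_iff.1 hx d hd)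
  obtain ⟨T, hT⟩ := (h.two.comap_of_injective C.subtype C.subtype_injective).exists_le_sylow
  set T' := (T : Subgroup C).map C.subtype with hT'
  have hDT : D ≤ T' := fun d hd => ⟨⟨d, hDC hd⟩, hT hd, rfl⟩
  have hcard : Nat.card T' = Nat.card (T : Subgroup C) := card_map_of_injective C.subtype_injective
  by_cases heq : T' ≤ D
  · exfalso
    have h4 : ¬ 4 ∣ Nat.card (Yq D) := by
      intro h4
      obtain ⟨P, hP⟩ := Sylow.exists_subgroup_card_pow_prime (G := ↥(Yq D)) 2 (n := 2) (by simpa using h4)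
      obtain ⟨m, hm⟩ := h.two.exists_card_eq
      have h1 : 2 ^ (m + 2) ∣ Nat.card G := by
        set Pc := (P.map (Yq D).subtype).comap (QuotientGroup.mk' (Kin D)) with hPc
        have e : Nat.card Pc = Nat.card (Kin D) * 4 := by
          have e1 := (QuotientGroup.mk' (Kin D)).ker.card_mul_index
          have e2 := index_comap_of_surjective (P.map (Yq D).subtype) (QuotientGroup.mk'_surjective (Kin D))
          have e3 := Pc.card_mul_index
          have e4 := (P.map (Yq D).subtype).card_mul_index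
          rw [← hPc] at e2
          rw [QuotientGroup.ker_mk'] at e1
          rw [card_map_of_injective (Yq D).subtype_injective, hP] at e4
          rw [e2, ← e1, index_eq_card (Kin D), ← e4] at e3
          refine Nat.eq_of_mul_eq_mul_right (Nat.pos_of_ne_zero (index_ne_zero_of_finite (H := P.map (Yq D).subtype))) ?_
          rw [e3]
          ring
        have h2 : Nat.card (Din D) = 2 ^ m :=
          (Nat.card_congr (subgroupOfEquivOfLe le_normalizer).toEquiv).trans hm
        refine Dvd.dvd.trans ?_ ((card_subgroup_dvd_card Pc).trans (card_subgroup_dvd_card (Nm D)))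
        rw [e, pow_add, ← h2]
        exact mul_dvd_mul (card_dvd_of_le le_sup_left) (by norm_num)
      have h2 := card_le_two_mul_sylow (h.small (x : G)
        (by rw [Subgroup.orderOf_coe]; exact hno ho) (by rw [Subgroup.orderOf_coe]; exact hnp)) T h1
      rw [← hcard, le_antisymm heq hDT, hm, ← pow_succ'] at h2
      have := (Nat.pow_dvd_pow_iff_le_right (by norm_num : 1 < 2)).1 h2
      omega
    exact hY (twoNil_of_not_four h4)
  · obtain ⟨q, hqT, hqD, hnorm⟩ := TwoNilCent.exists_norm (T.2.map C.subtype) hDT heq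
    have hqN : q ∈ Nm D := ZCGroup.mem_normalizer_of_map_le (by rintro _ ⟨d, hd, rfl⟩; exact hnorm d hd)
    obtain ⟨j, hj⟩ := (T.2.map C.subtype) ⟨q, hqT⟩
    replace hj : q ^ 2 ^ j = 1 := congrArg Subtype.val hj
    have hqc : Commute q (x : G) := mem_centralizer_singleton_iff.1 (map_subtype_le _ hqT)
    set qq : Mq := ((⟨q, hqN⟩ : ↥(Nm D)) : Mq) with hqq
    have hq1 : qq ≠ 1 := fun e => hqD (mem_subgroupOf.1 (two_mem_din h.two
      ((QuotientGroup.eq_one_iff _).1 e) (k := j) (Subtype.ext hj)))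
    have hq2 : qq ^ 2 ^ j = 1 := by
      rw [hqq, ← QuotientGroup.mk_pow, show (⟨q, hqN⟩ : ↥(Nm D)) ^ 2 ^ j = 1 from Subtype.ext hj]
      rfl
    have hcq : Commute qq (QuotientGroup.mk' (Kin D) x₀) := by
      rw [← hn]
      exact (show Commute (⟨q, hqN⟩ : ↥(Nm D)) x from Subtype.ext hqc.eq).map (QuotientGroup.mk' (Kin D))
    obtain ⟨i, -, hi⟩ := (Nat.dvd_prime_pow Nat.prime_two).1 (orderOf_dvd_of_pow_eq_one hq2)
    have hi0 : i ≠ 0 := fun e => hq1 (orderOf_eq_one_iff.1 (by rw [hi, e, pow_zero]))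
    exact ⟨_, orderOf_pow_orderOf_div (orderOf_pos qq).ne' (hi ▸ dvd_pow_self 2 hi0), hcq.pow_left _⟩

/-- The image of `C(D)` has no nontrivial normal 2-subgroup of the quotient. -/
theorem pCore_eq_bot (hY : ¬ Cfsg.HasNormalPComplement 2 ↥(Yq D)) :
    Cfsg.pCore 2 Mq ⊓ Yq D = ⊥ := by
  haveI : Fact (Nat.Prime 2) := ⟨Nat.prime_two⟩
  set B := Cfsg.pCore 2 Mq ⊓ Yq D with hB
  by_contra hne
  have hB2 : IsPGroup 2 B := (Solvable.isPGroup_pCore (G := Mq) 2).to_le inf_le_left
  haveI : (Yq D).Normal := (inferInstance : (Xin D).Normal).map _ (QuotientGroup.mk'_surjective _)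
  haveI : B.Normal := by rw [hB]; infer_instance
  haveI : Nontrivial B := (nontrivial_iff_ne_bot B).2 hne
  obtain ⟨k, hk⟩ := hB2.exists_card_eq
  have h2 : 2 ∣ Nat.card B := by
    rw [hk]
    refine dvd_pow_self 2 fun e => ?_
    have := Finite.one_lt_card (α := B)
    rw [hk, e, pow_zero] at this
    omega
  obtain ⟨b, hb⟩ := exists_prime_orderOf_dvd_card' 2 h2
  rw [← Subgroup.orderOf_coe] at hb
  have hall : ∀ v ∈ Yq D, Odd (orderOf v) → IsPrimePow (orderOf v) → Commute v (b : Mq) := by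
    intro v hv ho hp
    obtain ⟨a, ha, hav⟩ := exists_invol h hY hv ho hp
    obtain ⟨W, -, hWo, hW⟩ := exists_odd_cover (fixed_twoNil h ha)
    have key := CoprimeAct.p_times_q_aux (Nat.card B) 2 (zpowers a) (zpowers v) B rfl
      (IsPGroup.of_card (n := 1) (by rw [Nat.card_zpowers, ha, pow_one]))
      (by rw [Nat.card_zpowers]; exact Nat.coprime_two_right.2 ho) hB2
      (zpowers_le.2 (mem_centralizer_iff.2 fun x hx => by
        obtain ⟨i, rfl⟩ := mem_zpowers_iff.1 hx
        exact (hav.zpow_right i).eq.symm))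
      (normal_le _ _) (normal_le _ _) fun c hc => by
        refine mem_centralizer_iff.2 fun x hx => ?_
        obtain ⟨i, rfl⟩ := mem_zpowers_iff.1 hx
        suffices hcv : Commute v c from (hcv.zpow_left i).eq
        have hca : c ∈ centralizer ({a} : Set Mq) :=
          mem_centralizer_singleton_iff.2 (mem_centralizer_iff.1 hc.2 a (mem_zpowers a)).symm
        have hva : v ∈ centralizer ({a} : Set Mq) := mem_centralizer_singleton_iff.2 hav.eq.symm
        have h1 : v ∈ W := hW v ⟨hv, hva⟩ ho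
        have h3 : c * v⁻¹ * c⁻¹ ∈ W := hW _
          (mul_mem (mul_mem ⟨hc.1.2, hca⟩ (inv_mem ⟨hv, hva⟩)) (inv_mem ⟨hc.1.2, hca⟩))
          (by rwa [show c * v⁻¹ * c⁻¹ = MulAut.conj c v⁻¹ from rfl, MulEquiv.orderOf_eq, orderOf_inv])
        have h4 : v * (c * v⁻¹ * c⁻¹) = 1 := by
          refine eq_one_of_mem_two hB2 ?_ (hWo.of_dvd_nat (W.orderOf_dvd_natCard (mul_mem h1 h3)))
          rw [← mul_assoc, ← mul_assoc]
          exact mul_mem ((inferInstance : B.Normal).conj_mem c hc.1 v) (inv_mem hc.1)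
        rw [← mul_assoc, ← mul_assoc, mul_inv_eq_one, mul_inv_eq_iff_eq_mul] at h4
        exact h4
    exact (mem_centralizer_iff.1 (commutator_eq_bot_iff_le_centralizer.1 key b.2) v (mem_zpowers v))
  refine hY ?_
  obtain ⟨W, hWC, hWo, hW⟩ := exists_odd_cover (fixed_twoNil h hb)
  refine twoNil_of_odd_cover (W.subgroupOf (Yq D))
    (hWo.of_dvd_nat (card_comap_dvd_of_injective W _ (subtype_injective _))) fun y hy => ?_
  rw [← Subgroup.orderOf_coe] at hy
  refine mem_of_primePow W _ (y : Mq) rfl hy fun x hx hxo hxp => ?_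
  have hxY : x ∈ Yq D := (zpowers_le.2 y.2) hx
  exact hW x ⟨hxY, mem_centralizer_singleton_iff.2 (hall x hxY hxo hxp).eq⟩ hxo

theorem step : Cfsg.HasNormalPComplement 2 ↥(centralizer (D : Set G)) := by
  classical
  haveI : Fact (Nat.Prime 2) := ⟨Nat.prime_two⟩
  refine twoNil_of_image h ?_
  by_contra hY
  haveI : (Yq D).Normal := (inferInstance : (Xin D).Normal).map _ (QuotientGroup.mk'_surjective _)
  have hYne : Yq D ≠ ⊥ := fun e => hY (twoNil_of_not_four fun h4 => by
    rw [e, card_bot] at h4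
    omega)
  obtain ⟨N, ⟨hN, hNne, hNY⟩, hmin⟩ := Set.Finite.exists_minimal (α := Subgroup Mq)
    (s := {N | N.Normal ∧ N ≠ ⊥ ∧ N ≤ Yq D}) (Set.toFinite _) ⟨Yq D, inferInstance, hYne, le_rfl⟩
  haveI := hN
  have hmin' : ∀ K : Subgroup Mq, K.Normal → K ≤ N → K = ⊥ ∨ K = N := fun K hK hKN =>
    or_iff_not_imp_left.2 fun hne => le_antisymm hKN (hmin ⟨hK, hne, hKN.trans hNY⟩ hKN)
  have hna : ¬ IsMulCommutative N := by
    intro hab
    haveI := hab
    have hs : Group.IsSolvable N := by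
      letI : CommGroup N := { (inferInstance : Group N) with mul_comm := hab.is_comm.comm }
      infer_instance
    obtain ⟨-, p, hp, -, hpN⟩ := Solvable.minimal_normal_elementary hNne hmin' hs
    by_cases hp2 : p = 2
    · subst hp2
      have hle : N ≤ Cfsg.pCore 2 Mq ⊓ Yq D := le_inf (Solvable.le_pCore 2 hN hpN) hNY
      exact hNne (le_bot_iff.1 (pCore_eq_bot h hY ▸ hle))
    · refine hNne (oddNormal_eq_bot h N ?_ hNY)
      haveI := Fact.mk hp
      obtain ⟨k, hk⟩ := hpN.exists_card_eq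
      rw [hk]
      exact (hp.odd_of_ne_two hp2).pow
  obtain ⟨T, hT⟩ := ExtPrim.exists_isFactor N hNne hmin' hna
  haveI := hT.simple
  have hns : ¬ Group.IsSolvable T := fun hs =>
    hT.nonab ⟨⟨IsSimpleGroup.comm_iff_isSolvable.2 hs⟩⟩
  obtain ⟨u, hu⟩ : ∃ u : T, orderOf u = 2 := exists_prime_orderOf_dvd_card' 2 (by_contra fun hc => hns
    (CfsgLib.OddEnd.odd_solvable _ (Nat.not_even_iff_odd.1 fun he => hc (even_iff_two_dvd.1 he))))
  rw [← Subgroup.orderOf_coe] at hu
  -- the minimal normal subgroup is simple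
  have hNT : N = T := by
    by_contra hne
    have hoth : ExtPrim.others T ≠ ⊥ := fun e => hne (by
      have := hT.sup_others
      rw [e, sup_bot_eq] at this
      exact this.symm)
    obtain ⟨g, hg⟩ : ∃ g, ExtPrim.cj g T ≠ T := by
      by_contra hcon
      push Not at hcon
      exact hoth (le_bot_iff.1 (iSup₂_le fun g hg => absurd (hcon g) hg))
    have hle : ExtPrim.cj g T ≤ Yq D ⊓ centralizer ({(u : Mq)} : Set Mq) := by
      refine le_inf ((ExtPrim.cj_le_others hg).trans (hT.others_le.trans hNY)) fun c hc => ?_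
      exact mem_centralizer_singleton_iff.2
        (hT.commute u.2 (ExtPrim.cj_le_others hg hc)).eq.symm
    haveI := twoNil_solvable (fixed_twoNil h hu)
    haveI : Group.IsSolvable ↥(T.map (MulAut.conj g).toMonoidHom) :=
      Group.isSolvable_of_isSolvable_injective (inclusion_injective hle)
    exact hns (Group.isSolvable_of_isSolvable_injective
      (f := ((T.equivMapOfInjective (MulAut.conj g).toMonoidHom (MulAut.conj g).injective) :
        T ≃* ↥(ExtPrim.cj g T)).toMonoidHom) (MulEquiv.injective _))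
  haveI : T.Normal := hNT ▸ hN
  have hTY : T ≤ Yq D := hNT ▸ hNY
  have hcent : ∀ {a : Mq}, orderOf a = 2 →
      Cfsg.HasNormalPComplement 2 ↥(T ⊓ centralizer ({a} : Set Mq)) := fun ha =>
    PResidual.hasNormalPComplement_of_injective (inclusion (inf_le_inf_right _ hTY))
      (inclusion_injective _) (fixed_twoNil h ha)
  have hI : TwoNilCent.Hyp T := fun t ht => by
    rw [← Subgroup.orderOf_coe] at ht
    refine PResidual.hasNormalPComplement_of_injective
      ((T.subtype.comp (centralizer ({t} : Set T)).subtype).codRestrict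
        (T ⊓ centralizer ({(t : Mq)} : Set Mq)) fun c =>
          ⟨c.1.2, mem_centralizer_singleton_iff.2 (congrArg Subtype.val (mem_centralizer_singleton_iff.1 c.2))⟩)
      (fun a b hab => Subtype.ext (Subtype.ext (congrArg Subtype.val hab :))) (hcent ht)
  obtain ⟨y, hyo, hyp, hy⟩ := witness_of_simple hT.nonab hI
  rw [← Subgroup.orderOf_coe] at hyo hyp
  obtain ⟨a, ha, hay⟩ := exists_invol h hY (hTY y.2) hyo hyp
  refine hy (MulAut.conjNormal a) ?_ ?_ ?_
  · rw [← map_mul, Invol.mul_self_eq_one ha, map_one]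
  · refine Subtype.ext ?_
    rw [MulAut.conjNormal_apply, hay.eq, mul_inv_cancel_right]
  · refine PResidual.hasNormalPComplement_of_injective
      ((T.subtype.comp (fixedBy (MulAut.conjNormal (H := T) a)).subtype).codRestrict
        (T ⊓ centralizer ({a} : Set Mq)) fun c => ⟨c.1.2, mem_centralizer_singleton_iff.2 ?_⟩)
      (fun x z hxz => Subtype.ext (Subtype.ext (congrArg Subtype.val hxz :))) (hcent ha)
    have := congrArg Subtype.val c.2
    exact (mul_inv_eq_iff_eq_mul.1 this).symm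

end

/-- Centralisers of all 2-subgroups have normal 2-complements. -/
theorem centralizer_twoNil (hG : SmallTwo G) (D : Subgroup G) (hD : IsPGroup 2 D) :
    Cfsg.HasNormalPComplement 2 ↥(centralizer (D : Set G)) := by
  induction hk : Nat.card G - Nat.card D using Nat.strong_induction_on generalizing D with
  | _ k ih =>
    refine step ⟨hG, hD, fun D' hD' hlt => ih _ ?_ D' hD' rfl⟩
    have h1 : Nat.card D < Nat.card D' := by
      refine (card_le_of_le hlt.le).lt_of_ne fun e => hlt.ne (eq_of_le_of_card_ge hlt.le e.ge)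
    have h2 := card_le_card_group D'
    omega

/-- If the classes of odd prime power elements have sizes not divisible by 4, there is a normal
2-complement. -/
theorem twoNil (hG : SmallTwo G) : Cfsg.HasNormalPComplement 2 G := by
  haveI : Fact (Nat.Prime 2) := ⟨Nat.prime_two⟩
  refine PResidual.hasNormalPComplement_of_injective
    ((MonoidHom.id G).codRestrict (centralizer ((⊥ : Subgroup G) : Set G)) fun g =>
      mem_centralizer_iff.2 fun x hx => by rw [mem_bot.1 hx, one_mul]; exact (mul_one g).symm)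
    (fun a b hab => congrArg Subtype.val hab) (centralizer_twoNil hG ⊥ (IsPGroup.of_bot))

end CfsgLib.ClassSizeP
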