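import Cfsg.Agent.ClassSizeP.Basic
import Cfsg.Agent.Solvable.CoprimeIndexP
import Cfsg.Agent.OddLocal.PLengthZGroup
import Cfsg.Agent.Solvable.Fitting
import Cfsg.Agent.FGSB.SquarefreeStructure

/-!
# Normal p-complement in a solvable group with small p-parts of class sizes
-/

set_option autoImplicit false
set_option linter.style.haveILetI false
set_option linter.unusedSectionVars false

namespace CfsgLib.ClassSizeP

open Subgroup
open scoped commutatorElement

universe u

variable {G : Type u} [Group G] [Finite G] {p : ℕ} [hp : Fact p.Prime]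

/-- An element of `p'`-prime power order whose fixed points have index dividing `p` in a normal `p`-subgroup
centralises it, when `p` is smaller than its prime. -/
theorem le_centralizer_of_index {V : Subgroup G} [V.Normal] (hV : IsPGroup p V) {x : G} {r : ℕ}
    (hr : r.Prime) (hpr : p < r) {k : ℕ} (hx : orderOf x = r ^ k)
    (hidx : (centralizer ({x} : Set G)).relIndex V ∣ p) : V ≤ centralizer ({x} : Set G) := by
  set A := zpowers x with hA
  have hcA : centralizer (A : Set G) = centralizer ({x} : Set G) := by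
    rw [hA, zpowers_eq_closure, centralizer_closure]
  obtain ⟨n, hn⟩ := IsPGroup.iff_card.1 hV
  have hcop : (Nat.card A).Coprime (Nat.card V) := by
    rw [hA, Nat.card_zpowers, hx, hn]
    exact ((Nat.coprime_primes hr hp.out).2 hpr.ne').pow k n
  have hsolv : Group.IsSolvable A ∨ Group.IsSolvable V := by
    haveI := hV.isNilpotent
    exact Or.inr inferInstance
  have hAV : A ≤ normalizer (V : Set G) := le_normalizer_of_normal
  rcases (Nat.dvd_prime hp.out).1 hidx with h1 | h1
  · exact relIndex_eq_one.1 h1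
  have hidx' : (V ⊓ centralizer (A : Set G)).relIndex V = p := by
    rw [inf_relIndex_left, hcA, h1]
  have hc := CoprimeAct.card_commutator_of_index_prime hAV hcop hsolv hp.out hidx'
  have hcc := CoprimeAct.commutator_commutator hAV hcop hsolv
  set D := ⁅V, A⁆ with hD
  -- `x` acts on a group of order `p`, so trivially
  haveI : IsCyclic D := isCyclic_of_prime_card hc
  have hxD : x ∈ normalizer (D : Set G) :=
    normalizer_commutator_ge_right _ _ (mem_zpowers x)
  obtain ⟨d, hd⟩ := IsCyclic.exists_generator (α := D)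
  have hdo : orderOf (d : G) = p := by
    rw [orderOf_coe, orderOf_eq_card_of_forall_mem_zpowers hd, hc]
  have hfix : x * (d : G) * x⁻¹ = d := by
    obtain ⟨i, hi⟩ : ∃ i : ℕ, (d : G) ^ i = x * (d : G) * x⁻¹ := by
      obtain ⟨i, hi⟩ := mem_powers_iff_mem_zpowers.2 (hd ⟨_, (mem_normalizer_iff.1 hxD d).1 d.2⟩)
      exact ⟨i, by simpa using congrArg Subtype.val hi⟩
    have hiter : ∀ m : ℕ, x ^ m * (d : G) * (x ^ m)⁻¹ = (d : G) ^ (i ^ m) := by
      intro m
      induction m with
      | zero => simp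
      | succ m ih =>
        rw [pow_succ', show x * x ^ m * (d : G) * (x * x ^ m)⁻¹ = x * (x ^ m * (d : G) * (x ^ m)⁻¹) * x⁻¹
          by group, ih, ← conj_pow, ← hi, ← pow_mul, mul_comm, ← pow_succ]
    have h2 := hiter (r ^ k)
    rw [← hx, pow_orderOf_eq_one, one_mul, inv_one, mul_one, hx] at h2
    have h3 : ((i : ZMod p)) ^ (r ^ k) = 1 := by
      have h4 : (d : G) ^ (i ^ (r ^ k)) = (d : G) ^ 1 := by rw [pow_one]; exact h2.symm
      rw [pow_eq_pow_iff_modEq, hdo, ← ZMod.natCast_eq_natCast_iff] at h4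
      simpa using h4
    have hne : (i : ZMod p) ≠ 0 := fun e => by
      rw [e, zero_pow (pow_pos hr.pos k).ne'] at h3
      exact zero_ne_one h3
    have h5 : (i : ZMod p) = 1 := by
      rw [← orderOf_eq_one_iff]
      refine Nat.eq_one_of_dvd_coprimes ?_ (ZMod.orderOf_dvd_card_sub_one hne) (orderOf_dvd_of_pow_eq_one h3)
      refine (((hr.coprime_iff_not_dvd).2 fun hd => ?_).pow_left k).symm
      have := hp.out.two_le
      have := Nat.le_of_dvd (by omega) hd
      omega
    rw [← hi]
    conv_rhs => rw [← pow_one (d : G)]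
    rw [pow_eq_pow_iff_modEq, hdo, ← ZMod.natCast_eq_natCast_iff]
    simpa using h5
  have hDc : D ≤ centralizer (A : Set G) := by
    rw [hcA]
    intro y hy
    obtain ⟨i, hi⟩ := mem_zpowers_iff.1 (hd ⟨y, hy⟩)
    rw [← show (d : G) ^ i = y by simpa using congrArg Subtype.val hi]
    exact zpow_mem (mem_centralizer_singleton_iff.2 (mul_inv_eq_iff_eq_mul.1 hfix).symm) i
  rw [commutator_eq_bot_iff_le_centralizer.2 hDc] at hcc
  rw [← hcc, card_bot] at hc
  exact absurd hc.symm hp.out.ne_one

theorem pNil_of_solvable [Group.IsSolvable G]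
    (hmin : ∀ r : ℕ, r.Prime → r ∣ Nat.card G → p ≤ r)
    (h : ∀ x : G, (∃ (r : ℕ) (k : ℕ), r.Prime ∧ r ≠ p ∧ orderOf x = r ^ k) →
      ¬ p ^ 2 ∣ (centralizer ({x} : Set G)).index) : Cfsg.HasNormalPComplement p G := by
  set O := Cfsg.pPrimeCore p G with hO
  haveI : O.Normal := Solvable.pPrimeCore_normal p
  set f := QuotientGroup.mk' O
  have hfs : Function.Surjective f := QuotientGroup.mk'_surjective O
  haveI : Group.IsSolvable (G ⧸ O) := Group.isSolvable_of_surjective hfs
  have hO' := CfsgLib.Fitting.pPrimeCore_quotient_eq_bot (G := G) p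
  set P0 := Cfsg.pCore p (G ⧸ O)
  haveI : P0.Normal := Solvable.pCore_normal p
  have hP : IsPGroup p P0 := Solvable.isPGroup_pCore p
  have hq : IsPGroup p (G ⧸ O) := by
    refine IsPGroup.of_card (n := (Nat.card (G ⧸ O)).primeFactorsList.length)
      (Nat.eq_prime_pow_of_unique_prime_dvd Nat.card_pos.ne' fun {r} hr hrd => by_contra fun hne => ?_)
    haveI := Fact.mk hr
    obtain ⟨y, hy⟩ := exists_prime_orderOf_dvd_card' r hrd
    obtain ⟨g, rfl⟩ := hfs y
    obtain ⟨n, hn1, -, hn⟩ := exists_primePow_lift f g (hy ▸ hr.isPrimePow)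
    obtain ⟨s, k, hs, hk, he⟩ := (isPrimePow_nat_iff _).1 hn1
    have hrs : r = s := by
      have h1 : orderOf (f (g ^ n)) ∣ s ^ k := he ▸ orderOf_map_dvd f _
      rw [hn, hy] at h1
      exact (Nat.prime_dvd_prime_iff_eq hr hs).1 (hr.dvd_of_dvd_pow h1)
    subst hrs
    have hidx := h (g ^ n) ⟨r, k, hs, hne, he.symm⟩
    have hle : P0 ≤ centralizer ({f g} : Set (G ⧸ O)) := by
      refine le_centralizer_of_index hP hr (lt_of_le_of_ne
        (hmin r hr (hrd.trans (card_quotient_dvd_card O))) (Ne.symm hne)) (k := 1) (by rw [hy, pow_one]) ?_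
      obtain ⟨a, ha⟩ := IsPGroup.iff_card.1 hP
      obtain ⟨b, -, hb⟩ := (Nat.dvd_prime_pow hp.out).1
        (ha ▸ relIndex_dvd_card (centralizer ({f g} : Set (G ⧸ O))) P0)
      have h1 := (SquarefreeStructure.relIndex_dvd_index_centralizer P0 (centralizer ({f g} : Set (G ⧸ O)))).trans
        (hn ▸ CfsgLib.SquarefreeClass.index_centralizer_map_dvd f hfs (g ^ n))
      rw [hb] at h1 ⊢
      by_cases hb1 : b ≤ 1
      · exact (pow_dvd_pow p hb1).trans (pow_one p).dvd
      · exact absurd ((pow_dvd_pow p (by omega)).trans h1) hidx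
    have hmem : f g ∈ P0 := OddLocal.PLenZ.centralizer_pCore_le hO' (mem_centralizer_iff.2 fun z hz =>
      mem_centralizer_singleton_iff.1 (hle hz))
    obtain ⟨i, hi⟩ := hP ⟨f g, hmem⟩
    have h1 : f g ^ p ^ i = 1 := congrArg Subtype.val hi
    have h2 := orderOf_dvd_of_pow_eq_one h1
    rw [hy] at h2
    exact hne ((Nat.prime_dvd_prime_iff_eq hr hp.out).1 (hr.dvd_of_dvd_pow h2))
  obtain ⟨k, hk⟩ := IsPGroup.iff_card.1 hq
  exact PResidual.hasNormalPComplement_of_normal (N := O)
    (Solvable.coprime_card_pPrimeCore p) (k := k) (by rw [index_eq_card, hk])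

end CfsgLib.ClassSizeP
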