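import Cfsg.Agent.ClassSizeP.Main
import Cfsg.Agent.ClassSizeP.SolvableCase
import Cfsg.Agent.Solvable.Supersolvable
import Mathlib.GroupTheory.SpecificGroups.ZGroup

/-!
# Square-free class sizes of elements of prime power order
-/

set_option autoImplicit false
set_option linter.style.haveILetI false
set_option linter.unusedSectionVars false

namespace CfsgLib.ClassSizeP

open Subgroup
open scoped commutatorElement

universe u

variable {G : Type u} [Group G] [Finite G]

/-- The classes of elements of prime power order have square-free sizes. -/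
def SquarefreePP (G : Type u) [Group G] : Prop :=
  ∀ x : G, (∃ (r : ℕ) (k : ℕ), r.Prime ∧ orderOf x = r ^ k) →
    Squarefree (centralizer ({x} : Set G)).index

theorem SquarefreePP.lift {H : Type u} [Group H] [Finite H] (h : SquarefreePP G) (f : G →* H)
    (hf : Function.Surjective f) : SquarefreePP H := by
  rintro y ⟨r, k, hr, hk⟩
  obtain ⟨x, rfl⟩ := hf y
  rcases Nat.eq_zero_or_pos k with rfl | hk0
  · rw [pow_zero, orderOf_eq_one_iff] at hk
    refine (h 1 ⟨r, 0, hr, by simp⟩).squarefree_of_dvd ?_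
    rw [hk, ← map_one f]
    exact SquarefreeClass.index_centralizer_map_dvd f hf 1
  · obtain ⟨n, hn, -, he⟩ := exists_primePow_lift f x (hk ▸ (isPrimePow_nat_iff _).2 ⟨r, k, hr, hk0, rfl⟩)
    obtain ⟨s, j, hs, -, hj⟩ := (isPrimePow_nat_iff _).1 hn
    rw [← he]
    exact (h _ ⟨s, j, hs, hj.symm⟩).squarefree_of_dvd (SquarefreeClass.index_centralizer_map_dvd f hf _)

theorem SquarefreePP.normal (h : SquarefreePP G) (N : Subgroup G) [N.Normal] : SquarefreePP N := by
  rintro x ⟨r, k, hr, hk⟩
  exact (h (x : G) ⟨r, k, hr, by rw [orderOf_coe, hk]⟩).squarefree_of_dvd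
    (SquarefreeClass.index_centralizer_normal_dvd N x)

theorem not_sq_dvd {p : ℕ} (hp : p.Prime) {n : ℕ} (hn : Squarefree n) : ¬ p ^ 2 ∣ n := fun h => by
  rw [pow_two] at h
  exact hp.one_lt.ne' (Nat.isUnit_iff.1 (hn p h))

theorem SquarefreePP.isSolvable (h : SquarefreePP G) : Group.IsSolvable G := by
  haveI : Fact (Nat.Prime 2) := ⟨Nat.prime_two⟩
  refine twoNil_solvable (twoNil fun y _ hy h4 => ?_)
  obtain ⟨r, k, hr, -, he⟩ := (isPrimePow_nat_iff _).1 hy
  exact not_sq_dvd Nat.prime_two (h y ⟨r, k, hr, he.symm⟩) (by norm_num; exact h4)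

theorem supersolvable_aux : ∀ n : ℕ, ∀ (G : Type u) [Group G] [Finite G], Nat.card G = n →
    SquarefreePP G → Cfsg.IsSupersolvable G := by
  intro n
  induction n using Nat.strongRecOn with | ind n ih => ?_
  rintro G _ _ rfl h
  rcases subsingleton_or_nontrivial G with h1 | h1
  · exact Supersolvable.of_subsingleton
  haveI := h.isSolvable
  obtain ⟨V, hV, hV1, -, hmin⟩ := Solvable.exists_minimal_normal_le (G := G) (N := ⊤) top_ne_bot
  haveI := hV
  have hss : Cfsg.IsSupersolvable (G ⧸ V) :=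
    ih _ (Supersolvable.card_quotient_eq V ▸ (Nat.lt_mul_iff_one_lt_left Nat.card_pos).2
      (Finite.one_lt_card_iff_nontrivial.2 ((nontrivial_iff_ne_bot V).2 hV1))) _ rfl
      (h.lift _ (QuotientGroup.mk'_surjective V))
  obtain ⟨hab, p, hp, -, hVp⟩ := Solvable.minimal_normal_elementary hV1 hmin inferInstance
  haveI := Fact.mk hp
  refine Supersolvable.of_prime_normal (N := V) ?_ hss
  haveI := hab
  haveI : Nontrivial V := (nontrivial_iff_ne_bot V).2 hV1
  obtain ⟨v, hv⟩ : ∃ v : V, orderOf v = p := by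
    refine exists_prime_orderOf_dvd_card' p ?_
    obtain ⟨k, hk⟩ := hVp.exists_card_eq
    rw [hk]
    refine dvd_pow_self p fun e => ?_
    have := Finite.one_lt_card (α := V)
    rw [hk, e, pow_zero] at this
    omega
  set C := centralizer (V : Set G) with hC
  by_cases hCtop : C = ⊤
  · have hn : (zpowers (v : G)).Normal := ⟨fun y hy g => by
      have hyV : y ∈ V := (zpowers_le.2 v.2) hy
      rw [(mem_centralizer_iff.1 (show g ∈ C from hCtop ▸ mem_top g) y hyV).symm, mul_inv_cancel_right]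
      exact hy⟩
    rcases hmin _ hn (zpowers_le.2 v.2) with e | e
    · rw [zpowers_eq_bot] at e
      rw [← orderOf_coe, e, orderOf_one] at hv
      exact absurd hv.symm hp.ne_one
    · rw [← e, Nat.card_zpowers, orderOf_coe, hv]
      exact hp
  -- a normal subgroup of prime order of `G/C`
  have hVC : V ≤ C := fun a ha => mem_centralizer_iff.2 fun b hb =>
    congrArg Subtype.val (hab.is_comm.comm (⟨b, hb⟩ : V) ⟨a, ha⟩)
  have hssC : Cfsg.IsSupersolvable (G ⧸ C) := by
    refine Supersolvable.of_surjective (QuotientGroup.map V C (MonoidHom.id G) hVC) ?_ hss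
    intro y
    obtain ⟨g, rfl⟩ := QuotientGroup.mk_surjective y
    exact ⟨(g : G ⧸ V), rfl⟩
  haveI : Nontrivial (G ⧸ C) := QuotientGroup.nontrivial_iff.2 hCtop
  obtain ⟨M, hM, hMp⟩ := Supersolvable.exists_prime_normal hssC
  haveI := Fact.mk hMp
  obtain ⟨m, hm⟩ := exists_prime_orderOf_dvd_card' (G := M) (Nat.card M) dvd_rfl
  rw [← orderOf_coe] at hm
  obtain ⟨g, hg⟩ := QuotientGroup.mk'_surjective C (m : G ⧸ C)
  obtain ⟨k, hk, -, hkg⟩ := exists_primePow_lift (QuotientGroup.mk' C) g (by rw [hg, hm]; exact hMp.isPrimePow)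
  set x := g ^ k
  rw [hg] at hkg
  have hxC : x ∉ C := fun hx => by
    rw [show QuotientGroup.mk' C x = 1 from (QuotientGroup.eq_one_iff x).2 hx] at hkg
    rw [← hkg, orderOf_one] at hm
    exact hMp.one_lt.ne hm
  have hxM : ∀ y, QuotientGroup.mk' C y ∈ M → ∃ i : ℤ, x ^ i * y⁻¹ ∈ C := by
    intro y hy
    have hz : zpowers (m : G ⧸ C) = M := eq_of_le_of_card_ge (zpowers_le.2 m.2)
      (by rw [Nat.card_zpowers, hm])
    rw [← hz, ← hkg] at hy
    obtain ⟨i, hi⟩ := mem_zpowers_iff.1 hy
    refine ⟨i, (QuotientGroup.eq_one_iff _).1 ?_⟩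
    rw [QuotientGroup.mk_mul, QuotientGroup.mk_inv, QuotientGroup.mk_zpow]
    exact mul_inv_eq_one.2 hi
  set U := V ⊓ centralizer ({x} : Set G) with hU
  have hUn : U.Normal := by
    refine ⟨fun u hu a => ⟨hV.conj_mem u hu.1 a, mem_centralizer_singleton_iff.2 ?_⟩⟩
    have hy : QuotientGroup.mk' C (a⁻¹ * x * a) ∈ M := by
      rw [map_mul, map_mul, map_inv, hkg]
      have := hM.conj_mem _ m.2 (QuotientGroup.mk' C a)⁻¹
      rwa [inv_inv] at this
    obtain ⟨i, hi⟩ := hxM _ hy
    have hc1 : Commute (x ^ i) u :=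
      ((show Commute u x from mem_centralizer_singleton_iff.1 hu.2).zpow_right i).symm
    have hc2 : Commute (x ^ i * (a⁻¹ * x * a)⁻¹) u := (mem_centralizer_iff.1 hi u hu.1).symm
    have hc3 : Commute (a⁻¹ * x * a) u := by
      have := hc2.inv_left.mul_left hc1
      rwa [mul_inv_rev, inv_inv, inv_mul_cancel_right] at this
    calc a * u * a⁻¹ * x = a * (u * (a⁻¹ * x * a)) * a⁻¹ := by group
      _ = a * ((a⁻¹ * x * a) * u) * a⁻¹ := by rw [hc3.eq]
      _ = x * (a * u * a⁻¹) := by group
  obtain ⟨r, j, hr, -, hj⟩ := (isPrimePow_nat_iff _).1 hk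
  have hidx : (centralizer ({x} : Set G)).relIndex V ∣ p :=
    SquarefreeStructure.relIndex_centralizer_dvd hVp (h x ⟨r, j, hr, hj.symm⟩)
  rcases hmin U hUn inf_le_left with e | e
  · have h1 : (centralizer ({x} : Set G)).relIndex V = Nat.card V := by
      rw [← inf_relIndex_left, ← hU, e, relIndex_bot_left]
    rw [h1] at hidx
    rcases (Nat.dvd_prime hp).1 hidx with h2 | h2
    · exact absurd h2 (Finite.one_lt_card (α := V)).ne'
    · exact h2 ▸ hp
  · refine absurd (mem_centralizer_iff.2 fun w hw => ?_) hxC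
    exact mem_centralizer_singleton_iff.1 (e.ge hw).2

theorem SquarefreePP.supersolvable (h : SquarefreePP G) : Cfsg.IsSupersolvable G :=
  supersolvable_aux _ G rfl h

/-- The quotient by the Fitting subgroup is abelian of square-free exponent. -/
theorem fitting_quotient (hG : SquarefreePP G) :
    (∀ a b : G, a * b * a⁻¹ * b⁻¹ ∈ Cfsg.fittingSubgroup G) ∧
      ∃ e : ℕ, Squarefree e ∧ ∀ g : G, g ^ e ∈ Cfsg.fittingSubgroup G := by
  refine Supersolvable.induction_prime (fun G _ _ => SquarefreePP G →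
    (∀ a b : G, a * b * a⁻¹ * b⁻¹ ∈ Cfsg.fittingSubgroup G) ∧
      ∃ e : ℕ, Squarefree e ∧ ∀ g : G, g ^ e ∈ Cfsg.fittingSubgroup G) ?_ ?_ G hG.supersolvable hG
  · intro G _ _ hs _
    exact ⟨fun a b => by rw [Subsingleton.elim (a * b * a⁻¹ * b⁻¹) 1]; exact one_mem _,
      1, squarefree_one, fun g => by rw [Subsingleton.elim (g ^ 1) 1]; exact one_mem _⟩
  intro G _ _ N hNn hNp _ ih hG
  obtain ⟨hc, e, he, hpow⟩ := ih (hG.lift _ (QuotientGroup.mk'_surjective N))
  haveI := Fact.mk hNp
  haveI : IsCyclic N := isCyclic_of_prime_card (p := Nat.card N) rfl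
  set C := centralizer (N : Set G) with hC
  set Fb := Cfsg.fittingSubgroup (G ⧸ N) with hFb
  set K := Fb.comap (QuotientGroup.mk' N) ⊓ C with hK
  haveI : Fb.Normal := by rw [hFb]; infer_instance
  haveI : K.Normal := by rw [hK]; infer_instance
  have hKnil : Group.IsNilpotent K := by
    haveI : Group.IsNilpotent Fb := Solvable.isNilpotent_fittingSubgroup
    refine Subgroup.isNilpotent_of_ker_le_center
      (((QuotientGroup.mk' N).comp K.subtype).codRestrict Fb fun k => k.2.1) fun k hk => ?_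
    have hkN : (k : G) ∈ N := (QuotientGroup.eq_one_iff _).1 (congrArg Subtype.val hk)
    exact mem_center_iff.2 fun l => Subtype.ext (mem_centralizer_iff.1 l.2.2 _ hkN).symm
  have hKF : K ≤ Cfsg.fittingSubgroup G := Solvable.le_fittingSubgroup inferInstance hKnil
  obtain ⟨v, hv⟩ := IsCyclic.exists_generator (α := N)
  have hCv : C = centralizer ({(v : G)} : Set G) := by
    refine le_antisymm (centralizer_le (Set.singleton_subset_iff.2 v.2)) fun g hg =>
      mem_centralizer_iff.2 fun n hn => ?_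
    obtain ⟨i, hi⟩ := mem_zpowers_iff.1 (hv ⟨n, hn⟩)
    rw [← show (v : G) ^ i = n by simpa using congrArg Subtype.val hi]
    exact ((show Commute g (v : G) from mem_centralizer_singleton_iff.1 hg).zpow_right i).eq.symm
  have hCsq : Squarefree C.index := by
    rw [hCv]
    exact hG _ ⟨Nat.card N, 1, hNp, by
      rw [orderOf_coe, orderOf_eq_card_of_forall_mem_zpowers hv, pow_one]⟩
  haveI : C.Normal := by rw [hC]; infer_instance
  refine ⟨fun a b => hKF ⟨?_, ?_⟩, Nat.lcm e C.index, ?_, fun g => hKF ⟨?_, ?_⟩⟩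
  · show QuotientGroup.mk' N (a * b * a⁻¹ * b⁻¹) ∈ Fb
    simp only [map_mul, map_inv]
    exact hc _ _
  · -- automorphisms of the cyclic group `N` commute
    have h1 : ∀ x : G, ∃ i : ℤ, x * (v : G) * x⁻¹ = (v : G) ^ i := fun x => by
      obtain ⟨i, hi⟩ := mem_zpowers_iff.1 (hv ⟨_, hNn.conj_mem _ v.2 x⟩)
      exact ⟨i, by simpa using (congrArg Subtype.val hi).symm⟩
    obtain ⟨i, hi⟩ := h1 a
    obtain ⟨j, hj⟩ := h1 b
    rw [hCv]
    refine mem_centralizer_singleton_iff.2 ?_
    have e1 : ∀ (x : G) (k l : ℤ), x * (v : G) * x⁻¹ = (v : G) ^ k →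
        x * (v : G) ^ l * x⁻¹ = (v : G) ^ (k * l) := fun x k l hx => by
      rw [← conj_zpow, hx, ← zpow_mul]
    have e2 : a * b * (v : G) * (a * b)⁻¹ = b * a * (v : G) * (b * a)⁻¹ := by
      calc a * b * (v : G) * (a * b)⁻¹ = a * (b * (v : G) * b⁻¹) * a⁻¹ := by group
        _ = b * (a * (v : G) * a⁻¹) * b⁻¹ := by rw [hj, hi, e1 a i j hi, e1 b j i hj, mul_comm]
        _ = b * a * (v : G) * (b * a)⁻¹ := by group
    calc a * b * a⁻¹ * b⁻¹ * (v : G)
        = a * b * ((b * a)⁻¹ * (v : G) * (b * a)) * (a * b)⁻¹ * (a * b * a⁻¹ * b⁻¹) := by group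
      _ = b * a * ((b * a)⁻¹ * (v : G) * (b * a)) * (b * a)⁻¹ * (a * b * a⁻¹ * b⁻¹) := by
        obtain ⟨k, hk⟩ := h1 (b * a)⁻¹
        rw [inv_inv] at hk
        rw [hk, ← conj_zpow, e2, conj_zpow]
      _ = (v : G) * (a * b * a⁻¹ * b⁻¹) := by group
  · rw [Nat.squarefree_iff_prime_squarefree]
    intro q hq hd
    rw [← pow_two, hq.pow_dvd_iff_le_factorization (Nat.lcm_ne_zero he.ne_zero hCsq.ne_zero),
      Nat.factorization_lcm he.ne_zero hCsq.ne_zero, Finsupp.sup_apply] at hd
    have := he.natFactorization_le_one q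
    have := hCsq.natFactorization_le_one q
    omega
  · show QuotientGroup.mk' N (g ^ Nat.lcm e C.index) ∈ Fb
    obtain ⟨t, ht⟩ := Nat.dvd_lcm_left e C.index
    rw [map_pow, ht, pow_mul]
    exact pow_mem (hpow _) t
  · obtain ⟨t, ht⟩ := Nat.dvd_lcm_right e C.index
    rw [ht, pow_mul]
    exact pow_mem (pow_index_mem C g) t

/-- Knoche: a group in which every centraliser has index dividing `p` has derived group of order
dividing `p`. -/
theorem card_commutator_of_index {P : Type u} [Group P] [Finite P] {p : ℕ} [hp : Fact p.Prime]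
    (hP : IsPGroup p P) (h : ∀ x : P, (centralizer ({x} : Set P)).index ∣ p) :
    Nat.card (commutator P) ∣ p := by
  classical
  have hcz : ∀ a b : P, a * b * a⁻¹ * b⁻¹ ∈ center P := by
    intro a b
    refine mem_center_iff.2 fun x => ?_
    set R := centralizer ({x} : Set P)
    have : a * b * a⁻¹ * b⁻¹ ∈ R := by
      rcases (Nat.dvd_prime hp.out).1 (h x) with h1 | h1
      · rw [show R = ⊤ from index_eq_one.1 h1]; exact mem_top _
      haveI : R.Normal := by
        refine normal_of_index_eq_minFac_card (h1.trans ?_)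
        obtain ⟨k, hk⟩ := hP.exists_card_eq
        have hk0 : k ≠ 0 := fun e => by
          have := R.index_dvd_card
          rw [h1, hk, e, pow_zero, Nat.dvd_one] at this
          exact hp.out.ne_one this
        rw [hk, Nat.pow_minFac hk0, hp.out.minFac_eq]
      have hcyc : IsCyclic (P ⧸ R) := isCyclic_of_prime_card (p := p) (by rw [← index_eq_card, h1])
      rw [← QuotientGroup.eq_one_iff]
      obtain ⟨g, hg⟩ := IsCyclic.exists_generator (α := P ⧸ R)
      obtain ⟨i, hi⟩ := mem_zpowers_iff.1 (hg a)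
      obtain ⟨j, hj⟩ := mem_zpowers_iff.1 (hg b)
      rw [QuotientGroup.mk_mul, QuotientGroup.mk_mul, QuotientGroup.mk_mul, QuotientGroup.mk_inv,
        QuotientGroup.mk_inv, ← hi, ← hj, ← zpow_add, add_comm, zpow_add, mul_inv_cancel_right,
        mul_inv_cancel]
    exact (mem_centralizer_singleton_iff.1 this).symm
  -- the subgroup of commutators with a fixed element
  have hD : ∀ x : P, ∃ D : Subgroup P, Nat.card D = (centralizer ({x} : Set P)).index ∧
      (∀ v : P, x * v * x⁻¹ * v⁻¹ ∈ D) := by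
    intro x
    let φ : P →* P := MonoidHom.mk' (fun v => x * v * x⁻¹ * v⁻¹) fun v w => by
      have hc := mem_center_iff.1 (hcz x w) v
      calc x * (v * w) * x⁻¹ * (v * w)⁻¹ = (x * v * x⁻¹ * v⁻¹) * (v * (x * w * x⁻¹ * w⁻¹) * v⁻¹) := by group
        _ = _ := by rw [hc, mul_inv_cancel_right]
    refine ⟨φ.range, ?_, fun v => ⟨v, rfl⟩⟩
    have e : φ.ker = centralizer ({x} : Set P) := by
      ext v
      rw [MonoidHom.mem_ker, mem_centralizer_singleton_iff]
      show x * v * x⁻¹ * v⁻¹ = 1 ↔ _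
      rw [mul_inv_eq_one, mul_inv_eq_iff_eq_mul]
      exact eq_comm
    rw [← index_ker, e]
  choose D hDc hDm using hD
  have huniq : ∀ x y : P, D x ≠ ⊥ → D y ≠ ⊥ → D x = D y := by
    intro x y hx hy
    have hne : ∀ z, D z ≠ ⊥ → centralizer ({z} : Set P) ≠ ⊤ := fun z hz e => by
      have := hDc z
      rw [e, index_top] at this
      exact hz (eq_bot_of_card_eq _ this)
    obtain ⟨w, hwx, hwy⟩ : ∃ w, w ∉ centralizer ({x} : Set P) ∧ w ∉ centralizer ({y} : Set P) := by
      by_contra hcon
      push Not at hcon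
      obtain ⟨u, -, hu⟩ := SetLike.exists_of_lt (lt_top_iff_ne_top.2 (hne x hx))
      obtain ⟨v, -, hv⟩ := SetLike.exists_of_lt (lt_top_iff_ne_top.2 (hne y hy))
      have hu' := hcon u hu
      have hv' : v ∈ centralizer ({x} : Set P) := by_contra fun h' => hv (hcon v h')
      rcases Classical.em (u * v ∈ centralizer ({x} : Set P)) with h' | h'
      · exact hu ((mul_mem_cancel_right hv').1 h')
      · exact hv ((mul_mem_cancel_left hu').1 (hcon _ h'))
    -- both contain nontrivial elements of the group of commutators with `w`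
    have key : ∀ z, w ∉ centralizer ({z} : Set P) → D z = D w := by
      intro z hz
      have hd : z * w * z⁻¹ * w⁻¹ ≠ 1 := fun e => hz (mem_centralizer_singleton_iff.2
        (mul_inv_eq_iff_eq_mul.1 (mul_inv_eq_one.1 e)).symm)
      have hdw : z * w * z⁻¹ * w⁻¹ ∈ D w := by
        rw [show z * w * z⁻¹ * w⁻¹ = (w * z * w⁻¹ * z⁻¹)⁻¹ by group]
        exact inv_mem (hDm w z)
      exact SquarefreeStructure.eq_of_mem_of_dvd_prime (hDc z ▸ h z) (hDc w ▸ h w) (hDm z w) hdw hd
    exact (key x hwx).trans (key y hwy).symm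
  by_cases hall : ∀ x, D x = ⊥
  · have : commutator P = ⊥ := by
      rw [_root_.commutator_def, eq_bot_iff, commutator_le]
      intro a _ b _
      rw [commutatorElement_def, ← hall a]
      exact hDm a b
    rw [this, card_bot]
    exact one_dvd _
  push Not at hall
  obtain ⟨x₀, hx₀⟩ := hall
  refine (card_dvd_of_le ?_).trans (hDc x₀ ▸ h x₀)
  rw [_root_.commutator_def, commutator_le]
  intro a _ b _
  rw [commutatorElement_def]
  by_cases ha : D a = ⊥
  · have h1 := hDm a b
    rw [ha, mem_bot] at h1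
    rw [h1]
    exact one_mem _
  · exact huniq a x₀ ha hx₀ ▸ hDm a b

/-- The derived group of a nilpotent group has square-free order. -/
theorem squarefree_commutator (hG : SquarefreePP G) [Group.IsNilpotent G] :
    Squarefree (Nat.card (commutator G)) := by
  classical
  rw [Nat.squarefree_iff_prime_squarefree]
  intro p hp hd
  haveI := Fact.mk hp
  set O := Cfsg.pPrimeCore p G
  haveI hOn : O.Normal := Solvable.pPrimeCore_normal p
  set f := QuotientGroup.mk' O
  have hfs : Function.Surjective f := QuotientGroup.mk'_surjective O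
  have hq : IsPGroup p (G ⧸ O) := by
    refine IsPGroup.of_card (n := (Nat.card (G ⧸ O)).primeFactorsList.length)
      (Nat.eq_prime_pow_of_unique_prime_dvd Nat.card_pos.ne' fun {r} hr hrd => by_contra fun hne => ?_)
    haveI := Fact.mk hr
    obtain ⟨Q⟩ : Nonempty (Sylow r G) := inferInstance
    have hQ : (Q : Subgroup G) ≤ O := by
      refine Solvable.le_pPrimeCore p inferInstance ?_
      obtain ⟨k, hk⟩ := IsPGroup.iff_card.1 Q.2
      rw [hk]
      exact ((Nat.coprime_primes hr hp).2 hne).pow_left k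
    exact Q.not_dvd_index ((index_eq_card O ▸ hrd).trans (index_dvd_of_le hQ))
  have h1 : Nat.card (commutator (G ⧸ O)) ∣ p := by
    refine card_commutator_of_index hq fun y => ?_
    obtain ⟨k, hk⟩ := hq y
    obtain ⟨j, -, hj⟩ := (Nat.dvd_prime_pow hp).1 (orderOf_dvd_of_pow_eq_one hk)
    have hsq := hG.lift f hfs y ⟨p, j, hp, hj⟩
    obtain ⟨i, hi⟩ := hq.index (centralizer ({y} : Set (G ⧸ O)))
    rw [hi] at hsq ⊢
    have : i ≤ 1 := by
      by_contra hlt
      exact not_sq_dvd hp hsq (pow_dvd_pow p (by omega))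
    exact (pow_dvd_pow p this).trans (pow_one p).dvd
  have hmap : (commutator G).map f = commutator (G ⧸ O) := by
    rw [_root_.commutator_def, _root_.commutator_def, Subgroup.map_commutator,
      Subgroup.map_top_of_surjective f hfs]
  have h2 : Nat.card (commutator G) =
      Nat.card ((f.comp (commutator G).subtype).ker) * Nat.card ((f.comp (commutator G).subtype).range) := by
    rw [← Subgroup.index_ker, Subgroup.card_mul_index]
  have h3 : (f.comp (commutator G).subtype).range = commutator (G ⧸ O) := by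
    rw [MonoidHom.range_comp, Subgroup.range_subtype, hmap]
  have h4 : (Nat.card ((f.comp (commutator G).subtype).ker)).Coprime (p * p) := by
    refine Nat.Coprime.coprime_dvd_left ?_ ((Solvable.coprime_card_pPrimeCore p (G := G)).mul_right
      (Solvable.coprime_card_pPrimeCore p (G := G)))
    rw [← Subgroup.card_map_of_injective (commutator G).subtype_injective]
    refine Subgroup.card_dvd_of_le ?_
    rintro _ ⟨u, hu, rfl⟩
    exact (QuotientGroup.eq_one_iff _).1 hu
  rw [h2, h3] at hd
  have h5 := (h4.symm.dvd_of_dvd_mul_left hd).trans h1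
  have h6 := Nat.le_of_dvd hp.pos h5
  nlinarith [hp.two_le]

end CfsgLib.ClassSizeP
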