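import Cfsg.Agent.ClassSizeP.Basic
import Cfsg.Agent.TwoNilCent.RankTwo
import Cfsg.Agent.TwoNilCent.RankThree
import Cfsg.Agent.CITGroups.Final
import Cfsg.Agent.RankThreeInv.OddInv
import Cfsg.Agent.OneComp.Lists
import Cfsg.Agent.CNStruct.SimpleFacts
import Cfsg.Agent.RootSubgroups.SL2Pair
import Mathlib.GroupTheory.Perm.Fin

/-!
# Elements of odd prime power order avoided by involutory automorphisms with 2-nilpotent fixed points

Every simple group with 2-nilpotent involution centralisers has such an element.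
-/

set_option autoImplicit false
set_option linter.style.haveILetI false
set_option linter.unusedSectionVars false

namespace CfsgLib.ClassSizeP

open Subgroup

universe u v

/-- The fixed points of an automorphism. -/
def fixedBy {N : Type u} [Group N] (α : MulAut N) : Subgroup N :=
  MonoidHom.eqLocus α.toMonoidHom (MonoidHom.id N)

theorem mem_fixedBy {N : Type u} [Group N] {α : MulAut N} {x : N} : x ∈ fixedBy α ↔ α x = x := Iff.rfl

/-- `N` has an element of odd prime power order fixed by no automorphism of order at most 2 with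
2-nilpotent fixed point group. -/
def Witness (N : Type u) [Group N] : Prop :=
  ∃ y : N, Odd (orderOf y) ∧ IsPrimePow (orderOf y) ∧
    ∀ α : MulAut N, α * α = 1 → α y = y → ¬ Cfsg.HasNormalPComplement 2 ↥(fixedBy α)

theorem Witness.of_equiv {N : Type u} {M : Type v} [Group N] [Group M] [Finite N] [Finite M]
    (e : N ≃* M) (h : Witness M) : Witness N := by
  haveI : Fact (Nat.Prime 2) := ⟨Nat.prime_two⟩
  obtain ⟨y, ho, hp, hy⟩ := h
  refine ⟨e.symm y, by rwa [MulEquiv.orderOf_eq], by rwa [MulEquiv.orderOf_eq], fun α hα hfix hn => ?_⟩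
  let β : MulAut M := e.symm.trans (α.trans e)
  refine hy β ?_ ?_ ?_
  · refine MulEquiv.ext fun x => ?_
    show e (α (e.symm (e (α (e.symm x))))) = x
    rw [e.symm_apply_apply, show α (α (e.symm x)) = e.symm x from DFunLike.congr_fun hα _,
      e.apply_symm_apply]
  · show e (α (e.symm y)) = y
    rw [hfix, e.apply_symm_apply]
  · refine PResidual.hasNormalPComplement_of_injective
      ((e.symm.toMonoidHom.comp (fixedBy β).subtype).codRestrict (fixedBy α) fun x => ?_)
      (fun a b hab => Subtype.ext (e.symm.injective (congrArg Subtype.val hab))) hn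
    have hx : e (α (e.symm (x : M))) = x := x.2
    show α (e.symm (x : M)) = e.symm x
    exact e.injective (hx.trans (e.apply_symm_apply _).symm)

variable {N : Type u} [Group N] [Finite N]

theorem invariant {α : MulAut N} (hα : α * α = 1) (x : N) : α (α x) = x := DFunLike.congr_fun hα x

/-- An odd number of involutions `g` with `(g y)³ = 1` gives the property. -/
theorem witness_of_count {y : N} (ho : Odd (orderOf y)) (hp : IsPrimePow (orderOf y))
    (hW : Odd (Nat.card {g : N // g * g = 1 ∧ g ≠ 1 ∧ (g * y) ^ 3 = 1})) : Witness N := by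
  refine ⟨y, ho, hp, fun α hα hy hn => ?_⟩
  let f : {g : N // g * g = 1 ∧ g ≠ 1 ∧ (g * y) ^ 3 = 1} →
      {g : N // g * g = 1 ∧ g ≠ 1 ∧ (g * y) ^ 3 = 1} := fun g =>
    ⟨α g.1, by rw [← map_mul, g.2.1, map_one], fun h => g.2.2.1 (α.injective (h.trans (map_one α).symm)),
      by
        have e := congrArg α g.2.2.2
        rwa [map_pow, map_mul, hy, map_one] at e⟩
  obtain ⟨⟨g, hg2, hg1, hg3⟩, hg⟩ := RankThreeInv.exists_fixed_of_odd hW f
    (fun g => Subtype.ext (invariant hα g.1))
  have hgf : g ∈ fixedBy α := congrArg Subtype.val hg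
  have hgi : g⁻¹ = g := inv_eq_of_mul_eq_one_right hg2
  obtain ⟨W, -, hWo, hW'⟩ := exists_odd_cover hn
  have h1 : y ∈ W := hW' y hy ho
  have h2 : g * y * g⁻¹ ∈ W := hW' _ (mul_mem (mul_mem hgf hy) (inv_mem hgf))
    (by rwa [show g * y * g⁻¹ = MulAut.conj g y from rfl, MulEquiv.orderOf_eq])
  rw [hgi] at h2
  refine hg1 (eq_one_of_mem_odd hWo ?_ hg2)
  rw [← hgi, show g⁻¹ = y * (g * y * g) * y from ?_]
  · exact mul_mem (mul_mem h1 h2) h1
  · refine inv_eq_of_mul_eq_one_right ?_
    rw [← hg3, pow_succ, pow_succ, pow_one]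
    simp only [mul_assoc]

/-- An element of a CIT group is inverted by a fixed involution. -/
theorem inverted (hcit : CIT.IsCIT N) {α : MulAut N} (hn : Cfsg.HasNormalPComplement 2 ↥(fixedBy α))
    {y u : N} (hy : α y = y) (ho : Odd (orderOf y)) (hu : α u = u) (hu2 : orderOf u = 2) :
    u * y * u⁻¹ = y⁻¹ := by
  haveI : Fact (Nat.Prime 2) := ⟨Nat.prime_two⟩
  set W := (Cfsg.pResidual 2 ↥(fixedBy α)).map (fixedBy α).subtype with hW
  have hWo : Odd (Nat.card W) := by
    rw [hW, card_map_of_injective (fixedBy α).subtype_injective]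
    exact residual_odd hn
  refine LocalB.inverted_of_fpf hWo (Invol.mul_self_eq_one hu2) ?_ ?_ y
    ⟨⟨y, hy⟩, mem_residual (by rwa [← Subgroup.orderOf_coe]), rfl⟩
  · rintro _ ⟨w, hw, rfl⟩
    exact ⟨⟨u, hu⟩ * w * ⟨u, hu⟩⁻¹, Normal.conj_mem inferInstance w hw ⟨u, hu⟩, rfl⟩
  · intro a ha hc
    exact eq_one_of_mem_two (P := centralizer ({u} : Set N)) (hcit u hu2)
      (mem_centralizer_singleton_iff.2 hc.symm) (hWo.of_dvd_nat (W.orderOf_dvd_natCard ha))

/-- An involutory automorphism fixes a point of an invariant Sylow 2-subgroup. -/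
theorem exists_invariant_sylow {α : MulAut N} (hα : α * α = 1) :
    ∃ P : Sylow 2 N, ∀ x ∈ (P : Subgroup N), α x ∈ (P : Subgroup N) := by
  haveI : Fact (Nat.Prime 2) := ⟨Nat.prime_two⟩
  have hodd : Odd (Nat.card (Sylow 2 N)) := Nat.odd_iff.2 (card_sylow_modEq_one 2 N)
  let f : Sylow 2 N → Sylow 2 N := fun P => P.mapSurjective (f := α.toMonoidHom) α.surjective
  obtain ⟨P, hP⟩ := RankThreeInv.exists_fixed_of_odd hodd f fun P => Sylow.ext (by
    show (((P : Subgroup N).map α.toMonoidHom).map α.toMonoidHom) = _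
    rw [map_map, show α.toMonoidHom.comp α.toMonoidHom = MonoidHom.id N from
      MonoidHom.ext (invariant hα), map_id])
  exact ⟨P, fun x hx => by
    rw [← hP]
    exact ⟨x, hx, rfl⟩⟩

/-- A witness in a CIT group with commuting involutions in its Sylow subgroups. -/
theorem witness_of_central (hcit : CIT.IsCIT N)
    (hcen : ∀ P : Sylow 2 N, ∀ s ∈ (P : Subgroup N), s * s = 1 → ∀ t ∈ (P : Subgroup N), Commute s t)
    {A : Subgroup N} (hA : TwoNilCent.Big A) {y : N} (ho : Odd (orderOf y))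
    (hp : IsPrimePow (orderOf y)) : Witness N := by
  classical
  haveI : Fact (Nat.Prime 2) := ⟨Nat.prime_two⟩
  refine ⟨y, ho, hp, fun α hα hy hn => ?_⟩
  obtain ⟨P, hP⟩ := exists_invariant_sylow hα
  obtain ⟨R, hR⟩ := (Signalizer.isPGroup hA.1).exists_le_sylow
  obtain ⟨g, hg⟩ := MulAction.exists_smul_eq N R P
  have hA' : ∀ a ∈ A, g * a * g⁻¹ ∈ (P : Subgroup N) := fun a ha => by
    rw [← hg]
    exact smul_mem_pointwise_smul a (MulAut.conj g) (R : Subgroup N) (hR ha)
  -- two elements of `A` with the same image in the fixed points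
  let φ : A → N := fun a => g * a * g⁻¹ * α (g * a * g⁻¹)
  have hsq : ∀ a : A, (g * a * g⁻¹) * (g * a * g⁻¹) = 1 := fun a => by
    rw [conj_mul, TwoNilCent.sq_of_elem hA.1 a.2, mul_one, mul_inv_cancel]
  have hcomm : ∀ a b : A, Commute (g * a * g⁻¹) (α (g * b * g⁻¹)) := fun a b =>
    hcen P _ (hA' a a.2) (hsq a) _ (hP _ (hA' b b.2))
  have hfix : ∀ a : A, α (φ a) = φ a := fun a => by
    show α (_ * _) = _
    rw [map_mul, invariant hα]
    exact (hcomm a a).eq.symm
  have hφ2 : ∀ a : A, φ a * φ a = 1 := fun a => by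
    show _ * _ * (_ * _) = 1
    rw [(hcomm a a).symm.mul_mul_mul_comm, hsq, one_mul, ← map_mul, hsq, map_one]
  obtain ⟨u, v, huv, hu, hv, hu2, hv2, hc⟩ : ∃ u v : N, u ≠ v ∧ α u = u ∧ α v = v ∧ orderOf u = 2 ∧
      orderOf v = 2 ∧ Commute u v := by
    let Φ := {x : N | x ∈ (P : Subgroup N) ∧ x * x = 1 ∧ α x = x ∧ x ≠ 1}
    by_contra hcon
    push Not at hcon
    have huniq : ∀ x ∈ Φ, ∀ x' ∈ Φ, x = x' := fun x hx x' hx' => by_contra fun hne =>
      hcon x x' hne hx.2.2.1 hx'.2.2.1 (Invol.orderOf_eq_two hx.2.1 hx.2.2.2)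
        (Invol.orderOf_eq_two hx'.2.1 hx'.2.2.2) (hcen P x hx.1 hx.2.1 x' hx'.1)
    have hφP : ∀ a, φ a ∈ (P : Subgroup N) := fun a => mul_mem (hA' a a.2) (hP _ (hA' a a.2))
    -- `φ` takes at most two values, each at most twice
    haveI := Fintype.ofFinite A
    have hval : (Finset.univ.image φ).card ≤ 2 := by
      by_cases hne : ∃ x, x ∈ Φ
      · obtain ⟨x₀, hx₀⟩ := hne
        refine le_trans (Finset.card_le_card (t := {1, x₀}) fun x hx => ?_) Finset.card_le_two
        obtain ⟨a, -, rfl⟩ := Finset.mem_image.1 hx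
        rw [Finset.mem_insert, Finset.mem_singleton]
        exact or_iff_not_imp_left.2 fun h => huniq _ ⟨hφP a, hφ2 a, hfix a, h⟩ _ hx₀
      · refine le_trans (Finset.card_le_card (t := {1}) fun x hx => ?_) (by simp)
        obtain ⟨a, -, rfl⟩ := Finset.mem_image.1 hx
        rw [Finset.mem_singleton]
        exact by_contra fun h => hne ⟨_, hφP a, hφ2 a, hfix a, h⟩
    have hfib : ∀ x ∈ Finset.univ.image φ, (Finset.univ.filter fun a => φ a = x).card ≤ 2 := by
      intro x hx
      obtain ⟨a₀, -, rfl⟩ := Finset.mem_image.1 hx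
      have hd : ∀ a, φ a = φ a₀ → a ≠ a₀ → g * (↑(a * a₀) : N) * g⁻¹ ∈ Φ := fun a ha hne => by
        refine ⟨hA' _ (a * a₀).2, hsq _, ?_, fun h => hne ?_⟩
        · have e : ∀ b : A, α (g * b * g⁻¹) = g * b * g⁻¹ * φ b := fun b => by
            show _ = _ * (_ * _)
            rw [← mul_assoc, hsq, one_mul]
          rw [Subgroup.coe_mul, show g * ((a : N) * a₀) * g⁻¹ = g * a * g⁻¹ * (g * a₀ * g⁻¹) by group,
            map_mul, e, e, ha]
          have hc1 : Commute (φ a₀) (g * a₀ * g⁻¹) :=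
            (hcen P _ (hA' a₀ a₀.2) (hsq a₀) _ (hφP a₀)).symm
          rw [hc1.mul_mul_mul_comm, hφ2, mul_one]
        · have h1 : a * a₀ = 1 := Subtype.ext (conj_eq_one_iff.1 h)
          exact (eq_inv_of_mul_eq_one_left h1).trans (inv_eq_of_mul_eq_one_right
            (Subtype.ext (TwoNilCent.sq_of_elem hA.1 a₀.2)))
      by_contra hlt
      push Not at hlt
      obtain ⟨a, ha, b, hb, hab⟩ := Finset.one_lt_card.1 (show 1 <
        ((Finset.univ.filter fun a => φ a = φ a₀).erase a₀).card by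
          have := Finset.pred_card_le_card_erase (s := Finset.univ.filter fun a => φ a = φ a₀) (a := a₀)
          omega)
      simp only [Finset.mem_erase, Finset.mem_filter, Finset.mem_univ, true_and] at ha hb
      have h := huniq _ (hd a ha.2 ha.1) _ (hd b hb.2 hb.1)
      exact hab (mul_right_cancel (Subtype.ext (mul_left_cancel (mul_right_cancel h)) : a * a₀ = b * a₀))
    have h8 := hA.2
    rw [Nat.card_eq_fintype_card, ← Finset.card_univ] at h8
    have := Finset.card_le_mul_card_image Finset.univ 2 hfib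
    omega
  have h1 := inverted hcit hn hy ho hu hu2
  have h2 := inverted hcit hn hy ho hv hv2
  have h3 : Commute y (u * v) := by
    have e : u * v * y * (u * v)⁻¹ = y := by
      rw [show u * v * y * (u * v)⁻¹ = u * (v * y * v⁻¹) * u⁻¹ by group, h2]
      rw [show u * y⁻¹ * u⁻¹ = (u * y * u⁻¹)⁻¹ by group, h1, inv_inv]
    exact (mul_inv_eq_iff_eq_mul.1 e).symm
  have huvo : orderOf (u * v) = 2 := Invol.orderOf_eq_two
    (by rw [hc.symm.mul_mul_mul_comm, Invol.mul_self_eq_one hu2, Invol.mul_self_eq_one hv2, one_mul])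
    fun h => huv (by rw [eq_inv_of_mul_eq_one_left h, inv_eq_of_mul_eq_one_right (Invol.mul_self_eq_one hv2)])
  have := eq_one_of_mem_two (P := centralizer ({u * v} : Set N)) (hcit _ huvo)
    (x := y) (mem_centralizer_singleton_iff.2 h3.eq) ho
  rw [this, orderOf_one] at hp
  exact not_isPrimePow_one hp

/-- A witness in a CIT group: an element that is not inverted. -/
theorem witness_of_not_real (hcit : CIT.IsCIT N) (hev : 2 ∣ Nat.card N) {y : N}
    (ho : Odd (orderOf y)) (hp : IsPrimePow (orderOf y)) (hy : ∀ u : N, u * y * u⁻¹ ≠ y⁻¹) :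
    Witness N := by
  classical
  haveI : Fact (Nat.Prime 2) := ⟨Nat.prime_two⟩
  refine ⟨y, ho, hp, fun α hα hfix hn => ?_⟩
  obtain ⟨P, hP⟩ := exists_invariant_sylow hα
  let f : {x : N // x ∈ (P : Subgroup N) ∧ x ≠ 1} → {x : N // x ∈ (P : Subgroup N) ∧ x ≠ 1} := fun x =>
    ⟨α x.1, hP _ x.2.1, fun h => x.2.2 (α.injective (h.trans (map_one α).symm))⟩
  have hodd : Odd (Nat.card {x : N // x ∈ (P : Subgroup N) ∧ x ≠ 1}) := by
    obtain ⟨k, hk⟩ := IsPGroup.iff_card.1 P.2
    have hk0 : k ≠ 0 := fun e => by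
      have := P.dvd_card_of_dvd_card hev
      rw [hk, e] at this
      norm_num at this
    have e : {x : N // x ∈ (P : Subgroup N) ∧ x ≠ 1} ≃ {x : (P : Subgroup N) // x ≠ 1} :=
      ⟨fun x => ⟨⟨x.1, x.2.1⟩, fun h => x.2.2 (congrArg Subtype.val h)⟩,
        fun x => ⟨x.1, x.1.2, fun h => x.2 (Subtype.ext h)⟩, fun _ => rfl, fun _ => rfl⟩
    haveI := Fintype.ofFinite (P : Subgroup N)
    rw [Nat.card_congr e, Nat.card_eq_fintype_card, Fintype.card_subtype_compl,
      Fintype.card_subtype_eq, ← Nat.card_eq_fintype_card, hk]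
    have h1 : 1 ≤ 2 ^ k := Nat.one_le_two_pow
    rw [Nat.odd_sub h1]
    simp [Nat.even_pow, hk0, even_two]
  obtain ⟨⟨x, hxP, hx1⟩, hx⟩ := RankThreeInv.exists_fixed_of_odd hodd f
    (fun x => Subtype.ext (invariant hα x.1))
  replace hx : α x = x := congrArg Subtype.val hx
  obtain ⟨k, hk⟩ := P.2 ⟨x, hxP⟩
  replace hk : x ^ 2 ^ k = 1 := congrArg Subtype.val hk
  obtain ⟨j, -, hj⟩ := (Nat.dvd_prime_pow Nat.prime_two).1 (orderOf_dvd_of_pow_eq_one hk)
  have hj0 : j ≠ 0 := fun e => hx1 (orderOf_eq_one_iff.1 (by rw [hj, e, pow_zero]))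
  exact hy _ (inverted hcit hn hfix ho (u := x ^ (orderOf x / 2)) (by rw [map_pow, hx])
    (orderOf_pow_orderOf_div (orderOf_pos x).ne' (hj ▸ dvd_pow_self 2 hj0)))

section PSL2

variable {F : Type} [Field F] [Fintype F]

local notation "SL2" => Matrix.SpecialLinearGroup (Fin 2) F
local notation "P2" => Matrix.ProjectiveSpecialLinearGroup (Fin 2) F

/-- The involution attached to `x`. -/
def invAt (x : F) : SL2 := ⟨!![x, 1 + x ^ 2; -1, -x], by simp [Matrix.det_fin_two]; ring⟩

theorem invAt_sq (x : F) : ((invAt x * invAt x : SL2) : Matrix (Fin 2) (Fin 2) F) = (-1 : F) • 1 := by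
  rw [Matrix.SpecialLinearGroup.coe_mul]
  ext i j
  fin_cases i <;> fin_cases j <;> simp [invAt, Matrix.mul_apply, Fin.sum_univ_two] <;> ring

theorem witness_psl (hodd : Odd (Fintype.card F)) : Witness P2 := by
  classical
  obtain ⟨p, hpc⟩ := CharP.exists F
  obtain ⟨n, hp, hn⟩ := FiniteField.card F p
  haveI := Fact.mk hp
  have hop : Odd p := by
    rw [hn] at hodd
    exact (Nat.odd_pow_iff n.2.ne').1 hodd
  set y : P2 := QuotientGroup.mk (SL2Pair.up 1) with hy
  have hup : ∀ k : ℕ, (SL2Pair.up (1 : F)) ^ k = SL2Pair.up (k : F) := by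
    intro k
    induction k with
    | zero => simp [SL2Pair.up_zero]
    | succ k ih => rw [pow_succ, ih, SL2Pair.up_mul, Nat.cast_succ]
  have hy1 : y ≠ 1 := fun h => by
    obtain ⟨r, -, hr⟩ := (CNStruct.mk_eq_one_iff _).1 h
    have := congrFun (congrFun hr 0) 1
    simp [SL2Pair.up_coe] at this
  have hyp : orderOf y = p := orderOf_eq_prime
    (by rw [hy, ← QuotientGroup.mk_pow, hup, CharP.cast_eq_zero, SL2Pair.up_zero]; rfl) hy1
  refine witness_of_count (y := y) (hyp ▸ hop) (hyp ▸ hp.isPrimePow) ?_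
  let Φ : F → {g : P2 // g * g = 1 ∧ g ≠ 1 ∧ (g * y) ^ 3 = 1} := fun x =>
    ⟨QuotientGroup.mk (invAt x), by
      rw [← QuotientGroup.mk_mul, CNStruct.mk_eq_one_iff]
      exact ⟨-1, by norm_num, invAt_sq x⟩, fun h => by
      obtain ⟨r, hr2, hr⟩ := (CNStruct.mk_eq_one_iff _).1 h
      have := congrFun (congrFun hr 1) 0
      simp [invAt] at this, by
      rw [hy, ← QuotientGroup.mk_mul, ← QuotientGroup.mk_pow, CNStruct.mk_eq_one_iff]
      refine ⟨1, one_pow 2, ?_⟩
      rw [Matrix.SpecialLinearGroup.coe_pow, one_smul, Matrix.SpecialLinearGroup.coe_mul, pow_three]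
      ext i j
      fin_cases i <;> fin_cases j <;>
        simp [invAt, SL2Pair.up_coe, Matrix.mul_apply, Fin.sum_univ_two] <;> ring⟩
  have hbij : Function.Bijective Φ := by
    refine ⟨fun x x' h => ?_, ?_⟩
    · have h' : (QuotientGroup.mk ((invAt x)⁻¹ * invAt x') : P2) = 1 := by
        rw [QuotientGroup.mk_mul, QuotientGroup.mk_inv,
          show (QuotientGroup.mk (invAt x) : P2) = QuotientGroup.mk (invAt x') from congrArg Subtype.val h,
          inv_mul_cancel]
      obtain ⟨r, -, hr⟩ := (CNStruct.mk_eq_one_iff _).1 h'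
      have e : ((invAt x' : SL2) : Matrix (Fin 2) (Fin 2) F) = (invAt x : SL2) * (r • 1) := by
        rw [← hr, ← Matrix.SpecialLinearGroup.coe_mul, mul_inv_cancel_left]
      have e10 := congrFun (congrFun e 1) 0
      have e00 := congrFun (congrFun e 0) 0
      simp [invAt] at e10 e00
      grind
    rintro ⟨g, hg2, hg1, hg3⟩
    obtain ⟨M, rfl⟩ := QuotientGroup.mk_surjective g
    rw [← QuotientGroup.mk_mul, CNStruct.mk_eq_one_iff] at hg2
    rw [hy, ← QuotientGroup.mk_mul, ← QuotientGroup.mk_pow, CNStruct.mk_eq_one_iff] at hg3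
    obtain ⟨r, -, hM2⟩ := hg2
    obtain ⟨s, -, hM3⟩ := hg3
    set a := (M : Matrix (Fin 2) (Fin 2) F) 0 0 with ha
    set b := (M : Matrix (Fin 2) (Fin 2) F) 0 1 with hb
    set c := (M : Matrix (Fin 2) (Fin 2) F) 1 0 with hc
    set d := (M : Matrix (Fin 2) (Fin 2) F) 1 1 with hd
    have hM : (M : Matrix (Fin 2) (Fin 2) F) = !![a, b; c, d] := Matrix.eta_fin_two _
    have hdet : a * d - b * c = 1 := by
      have := M.2
      rwa [hM, Matrix.det_fin_two_of] at this
    have hns : ¬ (b = 0 ∧ c = 0 ∧ a = d) := by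
      rintro ⟨hb0, hc0, had⟩
      refine hg1 ((CNStruct.mk_eq_one_iff M).2 ⟨a, ?_, ?_⟩)
      · rw [hb0, ← had] at hdet
        linear_combination hdet
      · rw [hM, hb0, hc0, ← had]
        ext i j
        fin_cases i <;> fin_cases j <;> simp
    rw [Matrix.SpecialLinearGroup.coe_mul, hM] at hM2
    rw [Matrix.SpecialLinearGroup.coe_pow, Matrix.SpecialLinearGroup.coe_mul, hM, pow_three] at hM3
    have e00 := congrFun (congrFun hM2 0) 0
    have e01 := congrFun (congrFun hM2 0) 1
    have e10 := congrFun (congrFun hM2 1) 0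
    have e11 := congrFun (congrFun hM2 1) 1
    have f00 := congrFun (congrFun hM3 0) 0
    have f01 := congrFun (congrFun hM3 0) 1
    have f10 := congrFun (congrFun hM3 1) 0
    have f11 := congrFun (congrFun hM3 1) 1
    simp [SL2Pair.up_coe, Matrix.mul_apply, Fin.sum_univ_two] at e00 e01 e10 e11 f00 f01 f10 f11
    have htr : d = -a := by
      by_contra hne
      have ht : a + d ≠ 0 := fun h => hne (by linear_combination h)
      exact hns ⟨(mul_eq_zero.1 (show (a + d) * b = 0 by linear_combination e01)).resolve_left ht,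
        (mul_eq_zero.1 (show (a + d) * c = 0 by linear_combination e10)).resolve_left ht,
        sub_eq_zero.1 ((mul_eq_zero.1 (show (a + d) * (a - d) = 0 by
          linear_combination e00 - e11)).resolve_left ht)⟩
    rw [htr] at hdet f00 f01 f10 f11 hM
    have hc2 : c * c = 1 := by
      by_contra hne
      have hne' : c * c - 1 ≠ 0 := sub_ne_zero.2 hne
      have hc0 : c = 0 := (mul_eq_zero.1 (show (c * c - 1) * c = 0 by
        linear_combination f10 + c * hdet)).resolve_left hne'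
      have ha0 : a + a = 0 := (mul_eq_zero.1 (show (c * c - 1) * (a + a) = 0 by
        linear_combination f00 - f11 + (a + a) * hdet + f10)).resolve_left hne'
      have h2 : (2 : F) ≠ 0 := Ring.two_ne_zero fun h => by
        have : p = 2 := CharP.eq F hpc (ringChar.of_eq h)
        rw [this] at hop
        exact absurd hop (by decide)
      have : a = 0 := (mul_eq_zero.1 (show (2 : F) * a = 0 by linear_combination ha0)).resolve_left h2
      rw [this, hc0] at hdet
      simp at hdet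
    refine ⟨-c * a, Subtype.ext ?_⟩
    show QuotientGroup.mk (invAt (-c * a)) = QuotientGroup.mk M
    rw [← inv_mul_eq_one, ← QuotientGroup.mk_inv, ← QuotientGroup.mk_mul, CNStruct.mk_eq_one_iff]
    refine ⟨-c, by linear_combination hc2, ?_⟩
    have e : (M : Matrix (Fin 2) (Fin 2) F) =
        (-c) • ((invAt (-c * a) : SL2) : Matrix (Fin 2) (Fin 2) F) := by
      rw [hM]
      ext i j
      fin_cases i <;> fin_cases j <;> simp [invAt] <;> grind
    rw [Matrix.SpecialLinearGroup.coe_mul, e, mul_smul_comm, ← Matrix.SpecialLinearGroup.coe_mul,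
      inv_mul_cancel]
    rfl
  rw [← Nat.card_congr (Equiv.ofBijective Φ hbij), Nat.card_eq_fintype_card]
  exact hodd

end PSL2

/-- The five-cycle. -/
def fiveCycle : Equiv.Perm (Fin 7) := List.formPerm [0, 1, 2, 3, 4]

theorem fiveCycle_count : (Finset.univ.filter fun g : Equiv.Perm (Fin 7) => Equiv.Perm.sign g = 1 ∧
    g * g = 1 ∧ g ≠ 1 ∧ (g * fiveCycle) ^ 3 = 1).card = 15 := by decide +kernel

theorem fiveCycle_facts : fiveCycle ^ 5 = 1 ∧ fiveCycle ≠ 1 ∧ Equiv.Perm.sign fiveCycle = 1 := by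
  decide +kernel

theorem witness_seven : Witness ↥(alternatingGroup (Fin 7)) := by
  classical
  obtain ⟨h5, h1, hs⟩ := fiveCycle_facts
  let y : alternatingGroup (Fin 7) := ⟨fiveCycle, Equiv.Perm.mem_alternatingGroup.2 hs⟩
  haveI : Fact (Nat.Prime 5) := ⟨by norm_num⟩
  have hy : orderOf y = 5 := orderOf_eq_prime (Subtype.ext h5) fun h => h1 (congrArg Subtype.val h)
  refine witness_of_count (y := y) (by rw [hy]; decide) (hy ▸ (Nat.prime_five).isPrimePow) ?_
  have e : Nat.card {g : alternatingGroup (Fin 7) // g * g = 1 ∧ g ≠ 1 ∧ (g * y) ^ 3 = 1} = 15 := by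
    rw [← fiveCycle_count, ← Nat.card_eq_finsetCard]
    refine Nat.card_congr ⟨fun g => ⟨g.1.1, Finset.mem_filter.2 ⟨Finset.mem_univ _,
      Equiv.Perm.mem_alternatingGroup.1 g.1.2, congrArg Subtype.val g.2.1,
      fun h => g.2.2.1 (Subtype.ext h), congrArg Subtype.val g.2.2.2⟩⟩,
      fun g => ⟨⟨g.1, Equiv.Perm.mem_alternatingGroup.2 (Finset.mem_filter.1 g.2).2.1⟩,
      Subtype.ext (Finset.mem_filter.1 g.2).2.2.1,
      fun h => (Finset.mem_filter.1 g.2).2.2.2.1 (congrArg Subtype.val h),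
      Subtype.ext (Finset.mem_filter.1 g.2).2.2.2.2⟩, fun _ => rfl, fun _ => rfl⟩
  rw [e]
  decide

section L34

open CfsgLib.Linear.ThreeFour

variable {F : Type} [Field F] [Fintype F]

theorem witness_three_four (hF : Fintype.card F = 4) (hcit : CIT.IsCIT (P3 F))
    (hev : 2 ∣ Nat.card (P3 F)) : Witness (P3 F) := by
  have two : (2 : F) = 0 := two_eq_zero hF
  let Y : Matrix.SpecialLinearGroup (Fin 3) F := ⟨!![0, 0, 1; 1, 0, 1; 0, 1, 0], by
    simp [Matrix.det_fin_three]⟩
  let Z : Matrix (Fin 3) (Fin 3) F := !![1, 1, 0; 0, 0, 1; 1, 0, 0]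
  have hYZ : (Y : Matrix (Fin 3) (Fin 3) F) * Z = 1 := by
    ext i j
    fin_cases i <;> fin_cases j <;> simp [Y, Z, Matrix.mul_apply, Fin.sum_univ_three] <;> grind
  set y : P3 F := QuotientGroup.mk Y with hy
  have hy7 : y ^ 7 = 1 := by
    rw [hy, ← QuotientGroup.mk_pow]
    refine mk_eq_one_of_scalar _ 1 ?_
    rw [Matrix.SpecialLinearGroup.coe_pow, one_smul]
    simp only [pow_succ, pow_zero, one_mul]
    ext i j
    fin_cases i <;> fin_cases j <;> simp [Y, Matrix.mul_apply, Fin.sum_univ_three] <;> grind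
  haveI : Fact (Nat.Prime 7) := ⟨by norm_num⟩
  have hy1 : y ≠ 1 := fun h => by
    obtain ⟨c, -, hc⟩ := exists_scalar_of_mk_eq_one _ h
    have := congrFun (congrFun hc 1) 0
    simp [Y] at this
  have hord : orderOf y = 7 := orderOf_eq_prime hy7 hy1
  refine witness_of_not_real hcit hev (y := y) (by rw [hord]; decide)
    (hord ▸ (Fact.out : Nat.Prime 7).isPrimePow) fun u hu => ?_
  obtain ⟨U, rfl⟩ := QuotientGroup.mk_surjective u
  have h1 : (QuotientGroup.mk (U * Y * U⁻¹ * Y) : P3 F) = 1 := by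
    rw [QuotientGroup.mk_mul, QuotientGroup.mk_mul, QuotientGroup.mk_mul, QuotientGroup.mk_inv, ← hy,
      hu, inv_mul_cancel]
  obtain ⟨c, hc3, hc⟩ := exists_scalar_of_mk_eq_one _ h1
  rw [Matrix.SpecialLinearGroup.coe_mul] at hc
  have h2 : ((U * Y * U⁻¹ : Matrix.SpecialLinearGroup (Fin 3) F) : Matrix (Fin 3) (Fin 3) F) = c • Z := by
    calc _ = ((U * Y * U⁻¹ : Matrix.SpecialLinearGroup (Fin 3) F) : Matrix (Fin 3) (Fin 3) F) *
        ((Y : Matrix (Fin 3) (Fin 3) F) * Z) := by rw [hYZ, mul_one]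
      _ = c • Z := by rw [← mul_assoc, hc, smul_mul_assoc, one_mul]
  have h3 := congrArg Matrix.trace h2
  rw [Matrix.SpecialLinearGroup.coe_mul, Matrix.trace_mul_comm, ← Matrix.SpecialLinearGroup.coe_mul,
    inv_mul_cancel_left, Matrix.trace_smul] at h3
  simp [Y, Z, Matrix.trace_fin_three] at h3
  rw [← h3] at hc3
  simp at hc3

end L34

/-- Every nonabelian simple group with 2-nilpotent involution centralisers has a witness. -/
theorem witness_of_simple [IsSimpleGroup N] (hna : ¬ IsMulCommutative N) (hI : TwoNilCent.Hyp N) :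
    Witness N := by
  haveI : Fact (Nat.Prime 2) := ⟨Nat.prime_two⟩
  have hns : ¬ Group.IsSolvable N := fun h => hna ⟨⟨IsSimpleGroup.comm_iff_isSolvable.2 h⟩⟩
  have hev : 2 ∣ Nat.card N := by_contra fun h => hns
    (CfsgLib.OddEnd.odd_solvable _ (Nat.not_even_iff_odd.1 fun he => h (even_iff_two_dvd.1 he)))
  obtain ⟨t, ht⟩ := exists_prime_orderOf_dvd_card' 2 hev
  by_cases h2 : Cfsg.PRankLE 2 2 N
  · obtain ⟨S⟩ : Nonempty (Sylow 2 N) := inferInstance
    let K := GaloisField 2 4
    letI : Fintype K := Fintype.ofFinite K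
    have hK : Fintype.card K = 16 := by
      rw [← Nat.card_eq_fintype_card, GaloisField.card 2 4 (by norm_num)]; norm_num
    obtain ⟨P⟩ : Nonempty (Sylow 2 (Cfsg.PSU 3 K 4)) := inferInstance
    rcases Cfsg.Agent.S0516.result hna h2 S hK P with ⟨n, hn, hS⟩ | hq | hw | ⟨⟨e⟩⟩
    · haveI : Group.IsPerfect N := ⟨CfsgLib.L33Order.perfect hna⟩
      let q : N ⧸ Cfsg.oddCore N ≃* N :=
        (QuotientGroup.quotientMulEquivOfEq (TwoNilCent.oddCore_bot hev)).trans QuotientGroup.quotientBot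
      rcases CfsgLib.GW.Top.statement N S n hn hS with ⟨F, i1, i2, hodd, -, ⟨f⟩⟩ | ⟨⟨f⟩⟩
      · exact (witness_psl (F := F) hodd).of_equiv (q.symm.trans f)
      · exact witness_seven.of_equiv (q.symm.trans f)
    · exact (TwoNilCent.qd_false hna hI S (Or.inl hq) ht).elim
    · exact (TwoNilCent.qd_false hna hI S (Or.inr hw) ht).elim
    · refine (TwoNilCent.u34_false hna hI S ?_).elim
      have h := CfsgLib.U3Type.facts_psu (F := K) (n := 2) (by norm_num)
        (by rw [Nat.card_eq_fintype_card, hK]; norm_num) P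
      exact h.congr e.symm
  have hcit := TwoNilCent.isCIT hna hI h2
  obtain ⟨A, -, hA⟩ := TwoNilCent.exists_big_of_not_rankLE (H := (⊤ : Subgroup N)) fun h => h2 fun B hB hB' =>
    (card_map_of_injective (K := B) (f := (topEquiv (G := N)).symm.toMonoidHom)
      topEquiv.symm.injective).symm.le.trans (h _ (by
        haveI := hB
        infer_instance) (by rintro _ ⟨b, hb, rfl⟩; rw [← map_pow, hB' b hb, map_one]))
  rcases CIT.outcome CIT.noFpf_of_second hcit hns with ⟨K, T, D, w, Z⟩ |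
    ⟨-, F, iF, iFt, hodd, ⟨e⟩⟩ | ⟨hse, q, M, X, V, E, T, D, w, w', hS⟩
  · obtain ⟨d, hd⟩ : ∃ d : N, Odd (orderOf d) ∧ d ≠ 1 := by
      haveI : Nontrivial D := Finite.one_lt_card_iff_nontrivial.1 (by have := Z.three_le; omega)
      obtain ⟨d, hd⟩ := exists_ne (1 : D)
      exact ⟨d, Z.D_odd.of_dvd_nat (D.orderOf_dvd_natCard d.2), fun h => hd (Subtype.ext h)⟩
    obtain ⟨k, hk, hk2⟩ := CIT.exists_prime_pow_of_odd hd.1 hd.2
    refine witness_of_central hcit (fun P s hs hs2 t htP => ?_) hA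
      (hk.odd_of_ne_two hk2) hk.isPrimePow
    by_cases hs1 : s = 1
    · exact hs1 ▸ Commute.one_left t
    obtain ⟨g, hg⟩ := MulAction.exists_smul_eq N P
      (⟨T, Z.two, fun {Q} hQ hle => Z.sylow Q hQ hle⟩ : Sylow 2 N)
    have hm : ∀ x ∈ (P : Subgroup N), g * x * g⁻¹ ∈ T := fun x hx => by
      have h : g * x * g⁻¹ ∈ ((g • P : Sylow 2 N) : Subgroup N) :=
        smul_mem_pointwise_smul x (MulAut.conj g) (P : Subgroup N) hx
      rw [hg] at h
      exact h
    have hc := (Z.central (g * s * g⁻¹) (Z.K_eq ▸ le_normalizer (hm s hs))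
      (Invol.orderOf_eq_two (by rw [conj_mul, hs2, mul_one, mul_inv_cancel])
        (fun h => hs1 (conj_eq_one_iff.1 h)))).2 _ (hm t htP)
    exact Commute.of_map (f := (MulAut.conj g).toMonoidHom) (MulAut.conj g).injective hc
  · exact (witness_psl (F := F) hodd).of_equiv e
  · obtain ⟨F, iF, iFt, hF, ⟨e⟩⟩ := hS.exists_psl hcit hse
    have hcit' : CIT.IsCIT (Linear.ThreeFour.P3 F) := fun x hx => by
      refine ((hcit (e.symm x) (by rw [MulEquiv.orderOf_eq, hx])).map e.toMonoidHom |>.to_le ?_)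
      intro c hc
      exact ⟨e.symm c, mem_centralizer_singleton_iff.2 (by
        rw [← map_mul, ← map_mul, mem_centralizer_singleton_iff.1 hc]), e.apply_symm_apply c⟩
    exact (witness_three_four hF hcit' (Nat.card_congr e.toEquiv ▸ hev)).of_equiv e

end CfsgLib.ClassSizeP
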